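import Cfsg.Agent.Lib.Recog.FiTrans22.Generic

/-!
# A component of a class of involutions is the whole group

`H` contains the centralisers of its members of the class and of the products of two of them. Each of its other
involutions has two members in its centraliser which are told apart by their products with it. Then an element
outside would force these two members to be conjugate in the centraliser, so there is none (owner: helper13, after
notes of helper1).
-/

set_option autoImplicit false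

namespace CfsgLib.Recog.FiTrans22

variable {G : Type*} [Group G] {D : Set G} {H : Subgroup G}

/-- A product of two distinct commuting members lying in `H`. -/
def IsPair (D : Set G) (H : Subgroup G) (w : G) : Prop :=
  ∃ p q : G, p ∈ D ∧ p ∈ H ∧ q ∈ D ∧ q ∈ H ∧ p ≠ q ∧ Commute p q ∧ w = p * q

/-- A member whose conjugates in `H` are conjugate under `H` is controlled when its centraliser lies in `H`. -/
theorem controlled_member {d x : G} (hDc : ∀ g : G, ∀ x ∈ D, g * x * g⁻¹ ∈ D) (hd : d ∈ D) (hdH : d ∈ H)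
    (htr : ∀ x ∈ D, x ∈ H → ∃ h ∈ H, h * x * h⁻¹ = d)
    (hcent : ∀ x ∈ D, x ∈ H → ∀ g : G, Commute g x → g ∈ H) (hx : x ∈ D) (hxH : x ∈ H) : Controlled H x := by
  refine ⟨hxH, fun g hg => hcent x hx hxH g hg, fun g hg => ?_⟩
  obtain ⟨h, hh, e⟩ := htr _ (hDc g x hx) hg
  obtain ⟨k, hk, e'⟩ := htr x hx hxH
  have hc : Commute (h * g * k⁻¹) d := by
    show h * g * k⁻¹ * d = d * (h * g * k⁻¹)
    calc h * g * k⁻¹ * d = h * g * k⁻¹ * (k * x * k⁻¹) := by rw [e']
      _ = h * (g * x * g⁻¹) * h⁻¹ * (h * g * k⁻¹) := by group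
      _ = d * (h * g * k⁻¹) := by rw [e]
  have := mul_mem (mul_mem (inv_mem hh) (hcent d hd hdH _ hc)) hk
  simpa [mul_assoc] using this

/-- The hypotheses on the component. -/
structure Enclosed (D : Set G) (H : Subgroup G) (d : G) : Prop where
  conj_mem : ∀ g : G, ∀ x ∈ D, g * x * g⁻¹ ∈ D
  sq : ∀ x ∈ D, x * x = 1
  ne_one : ∀ x ∈ D, x ≠ 1
  mem : d ∈ D
  memH : d ∈ H
  trans : ∀ x ∈ D, ∃ g : G, g * x * g⁻¹ = d
  transH : ∀ x ∈ D, x ∈ H → ∃ h ∈ H, h * x * h⁻¹ = d
  cent : ∀ x ∈ D, x ∈ H → ∀ g : G, Commute g x → g ∈ H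
  pair_cent : ∀ w, IsPair D H w → ∀ g : G, Commute g w → g ∈ H
  pair_ne : ∀ w, IsPair D H w → w ∉ D
  exists_pair : ∃ x ∈ D, x ≠ d ∧ Commute d x
  invol : ∀ t ∈ H, t * t = 1 → t ≠ 1 → t ∈ D ∨ IsPair D H t ∨
    ∃ a f : G, a ∈ D ∧ a ∈ H ∧ f ∈ D ∧ f ∈ H ∧ Commute a t ∧ Commute f t ∧ IsPair D H (a * t) ∧
      ¬ IsPair D H (f * t)

namespace Enclosed

variable {d : G} (E : Enclosed D H d)
include E

theorem controlled {x : G} (hx : x ∈ D) (hxH : x ∈ H) : Controlled H x :=
  controlled_member E.conj_mem E.mem E.memH E.transH E.cent hx hxH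

theorem pair_mem {w : G} (hw : IsPair D H w) : w ∈ H := by
  obtain ⟨p, q, -, hp, -, hq, -, -, rfl⟩ := hw
  exact mul_mem hp hq

theorem pair_sq {w : G} (hw : IsPair D H w) : w * w = 1 ∧ w ≠ 1 := by
  obtain ⟨p, q, hp, -, hq, -, hne, hc, rfl⟩ := hw
  refine ⟨?_, fun h => hne ?_⟩
  · rw [mul_assoc, ← mul_assoc q, ← hc.eq, mul_assoc p, E.sq q hq, mul_one, E.sq p hp]
  · calc p = p * q * q := by rw [mul_assoc, E.sq q hq, mul_one]
      _ = q := by rw [h, one_mul]

theorem pair_conj {h w : G} (hh : h ∈ H) (hw : IsPair D H w) : IsPair D H (h * w * h⁻¹) := by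
  obtain ⟨p, q, hp, hpH, hq, hqH, hne, hc, rfl⟩ := hw
  exact ⟨h * p * h⁻¹, h * q * h⁻¹, E.conj_mem h p hp, mul_mem (mul_mem hh hpH) (inv_mem hh), E.conj_mem h q hq,
    mul_mem (mul_mem hh hqH) (inv_mem hh), fun e => hne (mul_left_cancel (mul_right_cancel e)),
    hc.map (MulAut.conj h).toMonoidHom, by group⟩

theorem pair_controlled {w : G} (hw : IsPair D H w) : Controlled H w := by
  refine Controlled.of_cent (E.pair_mem hw) (E.pair_sq hw).1 (E.pair_sq hw).2 (E.pair_cent w hw) fun t ht h2 h1 => ?_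
  rcases E.invol t ht h2 h1 with h | ⟨p, q, hp, hpH, -, -, -, hc, rfl⟩ | ⟨a, -, ha, haH, -, -, hc, -, -, -⟩
  · exact ⟨t, E.controlled h ht, Commute.refl t⟩
  · exact ⟨p, E.controlled hp hpH, (Commute.refl p).mul_right hc⟩
  · exact ⟨a, E.controlled ha haH, hc⟩

/-- A member inside is moved to a member outside by a power of their product. -/
theorem odd [Finite G] {a y : G} (ha : a ∈ D) (haH : a ∈ H) (hy : y ∈ D) (hyH : y ∉ H) :
    ∃ i : ℤ, (a * y) ^ i * a * ((a * y) ^ i)⁻¹ = y := by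
  rcases dihedral_cases (E.sq a ha) (E.sq y hy) with h | ⟨j, hj1, hj2, hja, hjy, -, hcase⟩
  · exact h
  exfalso
  have hjH : j ∈ H := E.cent a ha haH j hja
  rcases hcase with ⟨i, hi⟩ | ⟨i, hi⟩
  · have hjaD : j * a ∈ D := hi ▸ E.conj_mem _ a ha
    have hpair : IsPair D H j := by
      refine ⟨j * a, a, hjaD, mul_mem hjH haH, ha, haH, fun e => hj1 (mul_eq_right.1 e), ?_, ?_⟩
      · exact hja.mul_left (Commute.refl a)
      · rw [mul_assoc, E.sq a ha, mul_one]
    exact hyH (E.pair_cent j hpair y hjy.symm)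
  · have hyjD : y * j ∈ D := hi ▸ E.conj_mem _ a ha
    obtain ⟨g, hg⟩ := E.trans y hy
    set x := g * (y * j) * g⁻¹ with hx
    have hxD : x ∈ D := E.conj_mem g _ hyjD
    have hdx : Commute d x := by
      rw [← hg]
      exact ((Commute.refl y).mul_right hjy.symm).map (MulAut.conj g).toMonoidHom
    have hxH : x ∈ H := E.cent d E.mem E.memH x hdx.symm
    have hne : d ≠ x := by
      intro e
      rw [← hg, hx] at e
      exact hj1 (mul_eq_left.1 (mul_left_cancel (mul_right_cancel e)).symm)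
    have hpair : IsPair D H (d * x) := ⟨d, x, E.mem, E.memH, hxD, hxH, hne, hdx, rfl⟩
    have hgH : g⁻¹ ∈ H := (E.pair_controlled hpair).conj g⁻¹ (by
      rw [show g⁻¹ * (d * x) * g⁻¹⁻¹ = g⁻¹ * d * g * (g⁻¹ * x * g) by group, hx, ← hg,
        show g⁻¹ * (g * y * g⁻¹) * g * (g⁻¹ * (g * (y * j) * g⁻¹) * g) = y * y * j by group, E.sq y hy, one_mul]
      exact hjH)
    refine hyH ?_
    rw [show y = g⁻¹ * d * g⁻¹⁻¹ by rw [← hg]; group]
    exact mul_mem (mul_mem hgH E.memH) (inv_mem hgH)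

/-- There is nothing outside. -/
theorem eq_top [Finite G] : H = ⊤ := by
  rw [eq_top_iff]
  intro g₀ _
  by_contra hg₀
  set y := g₀ * d * g₀⁻¹ with hydef
  have hy : y ∈ D := E.conj_mem g₀ d E.mem
  have hyH : y ∉ H := fun h => hg₀ ((E.controlled E.mem E.memH).conj g₀ h)
  obtain ⟨x, hx, hxd, hdx⟩ := E.exists_pair
  have hxH : x ∈ H := E.cent d E.mem E.memH x hdx.symm
  have hw : IsPair D H (d * x) := ⟨d, x, E.mem, E.memH, hx, hxH, fun e => hxd e.symm, hdx, rfl⟩
  rcases dihedral_cases (E.pair_sq hw).1 (E.sq y hy) with ⟨i, hi⟩ | ⟨s, hs1, hs2, hsw, hsy, -, -⟩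
  · refine E.pair_ne _ hw ?_
    generalize (d * x * y) ^ i = r at hi
    have h := E.conj_mem r⁻¹ y hy
    rwa [← hi, show r⁻¹ * (r * (d * x) * r⁻¹) * r⁻¹⁻¹ = d * x by group] at h
  have hsH : s ∈ H := E.pair_cent _ hw s hsw
  rcases E.invol s hsH hs2 hs1 with h | h | ⟨a, f, ha, haH, hf, hfH, has, hfs, hap, hfp⟩
  · exact hyH (E.cent s h hsH y hsy.symm)
  · exact hyH (E.pair_cent s h y hsy.symm)
  -- the two members are conjugate in the centraliser
  obtain ⟨i, hi⟩ := E.odd ha haH hy hyH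
  obtain ⟨k, hk⟩ := E.odd hf hfH hy hyH
  set r := (a * y) ^ i with hr
  set r' := (f * y) ^ k with hr'
  have hrs : Commute r s := ((has.mul_left hsy.symm)).zpow_left i
  have hr's : Commute r' s := ((hfs.mul_left hsy.symm)).zpow_left k
  set u := r'⁻¹ * r with hu
  have hus : Commute u s := hr's.inv_left.mul_left hrs
  have hua : u * a * u⁻¹ = f := by
    rw [hu, show r'⁻¹ * r * a * (r'⁻¹ * r)⁻¹ = r'⁻¹ * (r * a * r⁻¹) * r' by group, hi, ← hk]
    group
  have hconj : u * (a * s) * u⁻¹ = f * s := by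
    rw [show u * (a * s) * u⁻¹ = u * a * u⁻¹ * (u * s * u⁻¹) by group, hua, hus.eq, mul_inv_cancel_right]
  have huH : u ∈ H := (E.pair_controlled hap).conj u (hconj ▸ mul_mem hfH hsH)
  exact hfp (hconj ▸ E.pair_conj huH hap)

end Enclosed

end CfsgLib.Recog.FiTrans22
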