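import Cfsg.Agent.Lib.Recog.FiM22.Identify

/-!
# A component of the commuting graph of a class of involutions

When the members commuting with one member are labelled by the 693 points and two of them generate at most a
dihedral group of order six, the component of a member generates a copy of Fi22 (owner: helper13).
-/

set_option autoImplicit false
set_option maxRecDepth 20000

namespace CfsgLib.Recog.FiTrans22

open Cfsg CfsgLib.ThreeTrans CfsgLib.Recog.FiM22
open CfsgLib.ThreeTrans.CosetIndex (forallFrom forallFrom_elim)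

/-- Some point is orthogonal to neither of a point and the first one. -/
noncomputable def apartOK (q : ℕ) : Bool :=
  (List.range 693).any fun u => !(com 0 u) && !(com q u)

theorem apart_checked : forallFrom apartOK 0 693 = true := by decide +kernel

theorem exists_apart {p q : ℕ} (hp : p < 693) (hq : q < 693) :
    ∃ u < 693, com p u = false ∧ com q u = false := by
  obtain ⟨σ, hσ, h0⟩ := exists_aut_zero hp
  have h := forallFrom_elim apart_checked (Nat.zero_le (σ q)) (by have := hσ.lt q hq; omega)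
  simp only [apartOK, List.any_eq_true, List.mem_range, Bool.and_eq_true, Bool.not_eq_true'] at h
  obtain ⟨v, hv, h1, h2⟩ := h
  obtain ⟨u, hu, rfl⟩ := hσ.surj hv
  exact ⟨u, hu, by rw [← hσ.com hp hu, h0, h1], by rw [← hσ.com hq hu, h2]⟩

theorem apart_near {r : ℕ} (hr : r < 693) : ∃ t < 693, t ≠ r ∧ com r t = true := by
  obtain ⟨σ, hσ, h0⟩ := exists_aut_zero hr
  have h : ∃ t < 693, (!(Nat.beq t 0) && com 0 t) = true := by
    have : ((List.range 693).any fun t => !(Nat.beq t 0) && com 0 t) = true := by decide +kernel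
    simpa only [List.any_eq_true, List.mem_range] using this
  obtain ⟨v, hv, h1⟩ := h
  simp only [Bool.and_eq_true, Bool.not_eq_true'] at h1
  obtain ⟨t, ht, rfl⟩ := hσ.surj hv
  refine ⟨t, ht, fun e => ?_, by rw [← hσ.com hr ht, h0, h1.2]⟩
  rw [e, h0] at h1
  simp at h1

theorem cover_point {σ : ℕ → ℕ} (hσ : IsAut σ) {r : ℕ} (hr : r < 693) :
    σ r ∈ std.p0 ∨ ∃ p ∈ std.p0, com p (σ r) = true := by
  have h := std_ok
  simp only [stdOK, Bool.and_eq_true, List.all_eq_true, List.mem_range, Bool.or_eq_true, List.any_eq_true] at h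
  obtain ⟨-, -, -, -, -, -, -, -, -, -, hcov, -⟩ := h
  exact (hcov (σ r) (hσ.lt r hr)).imp memb_iff.1 fun ⟨p, hp, hc⟩ => ⟨p, hp, hc⟩

universe u

variable {G : Type u} [Group G] {D : Set G}

theorem Labelled.conj {a : G} {lab : ℕ → G} (hD : ∀ g : G, ∀ x ∈ D, g * x * g⁻¹ ∈ D) (L : Labelled D a lab)
    (g : G) : Labelled D (g * a * g⁻¹) (fun r => g * lab r * g⁻¹) where
  mem := fun r hr => ⟨hD g _ (L.mem r hr).1, fun e => (L.mem r hr).2.1 (mul_left_cancel (mul_right_cancel e)),
    commute_conj_iff.2 (L.mem r hr).2.2⟩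
  inj := fun r hr s hs h => L.inj r hr s hs (mul_left_cancel (mul_right_cancel h))
  surj := fun e he => by
    obtain ⟨r, hr, h⟩ := L.surj (g⁻¹ * e * g) ⟨by simpa using hD g⁻¹ e he.1, fun h => he.2.1 (by rw [← h]; group),
      by rw [← commute_conj_iff (g := g), conj_cancel]; exact he.2.2⟩
    exact ⟨r, hr, by rw [h, conj_cancel]⟩
  map := fun r hr s hs => by
    show g * lab (mul r s) * g⁻¹ = _
    rw [L.map r hr s hs]
    group

/-- A class of involutions with known neighbourhoods. -/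
structure Hood (D : Set G) (a : G) : Prop where
  conj_mem : ∀ g : G, ∀ x ∈ D, g * x * g⁻¹ ∈ D
  trans : ∀ x ∈ D, ∀ y ∈ D, ∃ g : G, g * x * g⁻¹ = y
  sq : ∀ x ∈ D, x * x = 1
  ne_one : ∀ x ∈ D, x ≠ 1
  mem : a ∈ D
  lab : ∃ lab, Labelled D a lab
  cube : ∀ y ∈ nbrs D a, ∀ z ∈ nbrs D a, ¬ Commute y z → (y * z) ^ 3 = 1
  cent : ∀ g : G, Commute g a → g ∈ Subgroup.closure (nbrs D a)
  central : ∀ g : G, Commute g a → (∀ y ∈ nbrs D a, Commute g y) → g = 1 ∨ g = a

/-- The members at distance at most two. -/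
def ball (D : Set G) (a : G) : Set G :=
  {x | x ∈ D ∧ (Commute a x ∨ ∃ z ∈ D, z ≠ a ∧ z ≠ x ∧ Commute a z ∧ Commute x z)}

/-- The members of the component as members of the subgroup it generates. -/
def inBall (D : Set G) (a : G) : Set ↥(Subgroup.closure (ball D a)) := {x | (x : G) ∈ ball D a}

namespace Hood

variable {a : G} (B : Hood D a)
include B

theorem nbrs_conj {g x y : G} (hy : y ∈ nbrs D x) : g * y * g⁻¹ ∈ nbrs D (g * x * g⁻¹) :=
  ⟨B.conj_mem g y hy.1, fun e => hy.2.1 (mul_left_cancel (mul_right_cancel e)), commute_conj_iff.2 hy.2.2⟩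

theorem moved {x : G} (hx : x ∈ D) : Hood D x := by
  obtain ⟨g, rfl⟩ := B.trans a B.mem x hx
  obtain ⟨lab, L⟩ := B.lab
  have back : ∀ y ∈ nbrs D (g * a * g⁻¹), g⁻¹ * y * g ∈ nbrs D a := fun y hy => by
    have h := B.nbrs_conj (g := g⁻¹) hy
    rwa [inv_inv, show g⁻¹ * (g * a * g⁻¹) * g = a by group] at h
  refine ⟨B.conj_mem, B.trans, B.sq, B.ne_one, hx, ⟨_, Labelled.conj B.conj_mem L g⟩, fun y hy z hz hc => ?_,
    fun h hh => ?_, fun h hh hall => ?_⟩
  · have := B.cube _ (back y hy) _ (back z hz) fun e => hc (by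
      rw [← conj_cancel g y, ← conj_cancel g z]
      exact commute_conj_iff.2 e)
    rwa [show g⁻¹ * y * g * (g⁻¹ * z * g) = g⁻¹ * (y * z) * g⁻¹⁻¹ by group, conj_pow, conj_eq_one_iff] at this
  · have h1 := B.cent (g⁻¹ * h * g) (by rw [← commute_conj_iff (g := g), conj_cancel]; exact hh)
    have h2 := Subgroup.mem_map_of_mem (MulAut.conj g).toMonoidHom h1
    rw [MonoidHom.map_closure] at h2
    rw [← conj_cancel g h]
    exact Subgroup.closure_mono (by rintro _ ⟨y, hy, rfl⟩; exact B.nbrs_conj hy) h2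
  · rcases B.central (g⁻¹ * h * g) (by rw [← commute_conj_iff (g := g), conj_cancel]; exact hh) (fun y hy => by
      rw [← commute_conj_iff (g := g), conj_cancel]; exact hall _ (B.nbrs_conj hy)) with e | e
    · exact Or.inl (by rw [← conj_cancel g h, e]; group)
    · exact Or.inr (by rw [← conj_cancel g h, e])

theorem inv_eq {x : G} (hx : x ∈ D) : x⁻¹ = x := inv_eq_of_mul_eq_one_right (B.sq x hx)

theorem local_map {lab : ℕ → G} (L : Labelled D a lab) {b : G} (hb : b ∈ D) (hab : ¬ Commute a b)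
    {r : ℕ} (hr : r < 693) (hc : Commute b (lab r)) :
    ∃ (g : G) (τ : ℕ → ℕ), IsAut τ ∧ g * lab r * g⁻¹ = a ∧
      ∃ p q, p < 693 ∧ q < 693 ∧ g * a * g⁻¹ = lab p ∧ g * b * g⁻¹ = lab q ∧ com p q = false ∧ τ p = 0 ∧ τ q = second := by
  have he := L.mem r hr
  obtain ⟨g, hg⟩ := B.trans (lab r) he.1 a B.mem
  have hga : g * a * g⁻¹ ∈ nbrs D a := by
    refine ⟨B.conj_mem g a B.mem, fun h => he.2.1 (mul_left_cancel (mul_right_cancel (hg.trans h.symm))), ?_⟩
    have := (commute_conj_iff (g := g)).2 he.2.2.symm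
    rwa [hg] at this
  have hgb : g * b * g⁻¹ ∈ nbrs D a := by
    refine ⟨B.conj_mem g b hb, fun h => hab ?_, ?_⟩
    · rw [mul_left_cancel (mul_right_cancel (h.trans hg.symm))]
      exact he.2.2
    · have := (commute_conj_iff (g := g)).2 hc.symm
      rwa [hg] at this
  obtain ⟨p, hp, ep⟩ := L.surj _ hga
  obtain ⟨q, hq, eq⟩ := L.surj _ hgb
  have hpq : com p q = false := Bool.eq_false_iff.2 fun h => hab (by
    have := (L.commute_iff hp hq).2 h
    rwa [ep, eq, commute_conj_iff] at this)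
  obtain ⟨τ, hτ, h0, h1⟩ := exists_aut_pair hp hq hpq
  exact ⟨g, τ, hτ, hg, p, q, hp, hq, ep.symm, eq.symm, hpq, h0, h1⟩

theorem cand {lab : ℕ → G} (L : Labelled D a lab) {b : G} (hb : b ∈ D) (hab : ¬ Commute a b)
    (hne : ∃ r < 693, Commute b (lab r)) : IsCand std (fun r => r < 693 ∧ Commute b (lab r)) where
  lt := fun _ h => h.1
  ne := by
    obtain ⟨r, hr, hc⟩ := hne
    exact ⟨r, hr, hc⟩
  closed := fun e f he hf => ⟨mul_lt he.1 hf.1, by
    rw [L.map e he.1 f hf.1]
    exact (he.2.mul_right hf.2).mul_right he.2.inv_right⟩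
  local_iso := by
    rintro r ⟨hr, hc⟩
    obtain ⟨g, τ, hτ, hg, p, q, hp, hq, ep, eq, -, h0, h1⟩ := B.local_map L hb hab hr hc
    have key : ∀ z ∈ std.s, ∃ x < 693, τ x = z ∧ ∃ y < 693, lab y = g⁻¹ * lab x * g ∧
        Commute b (lab y) ∧ Commute (lab r) (lab y) ∧ y ≠ r := by
      intro z hz
      obtain ⟨hz, a0, a1⟩ := mem_std.1 hz
      obtain ⟨x, hx, rfl⟩ := hτ.surj hz
      obtain ⟨n0, c0⟩ := adj_iff.1 a0
      obtain ⟨n1, c1⟩ := adj_iff.1 a1
      have cp : Commute (lab p) (lab x) := (L.commute_iff hp hx).2 (by rw [← hτ.com hp hx, h0]; exact c0)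
      have cq : Commute (lab q) (lab x) := (L.commute_iff hq hx).2 (by rw [← hτ.com hq hx, h1]; exact c1)
      have hxm := L.mem x hx
      have hy : g⁻¹ * lab x * g ∈ nbrs D a := by
        refine ⟨by simpa using B.conj_mem g⁻¹ _ hxm.1, fun h => n0 ?_, ?_⟩
        · rw [← h0]
          refine congrArg τ (L.inj p hp x hx ?_)
          rw [← ep, ← h]; group
        · rw [← commute_conj_iff (g := g), conj_cancel, ep]; exact cp
      obtain ⟨y, hy', ey⟩ := L.surj _ hy
      refine ⟨x, hx, rfl, y, hy', ey, ?_, ?_, fun h => hxm.2.1 ?_⟩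
      · rw [ey, ← commute_conj_iff (g := g), conj_cancel, eq]; exact cq
      · rw [ey, ← commute_conj_iff (g := g), conj_cancel, hg]; exact hxm.2.2
      · rw [← hg, ← h, ey, conj_cancel]
    choose! x hx hxz y hy hyx hby hry hyr using key
    refine ⟨y, fun z hz => ⟨⟨hy z hz, hby z hz⟩, (L.commute_iff hr (hy z hz)).1 (hry z hz), hyr z hz⟩, ?_, ?_, ?_⟩
    · rintro v ⟨hv, hbv⟩ hrv hne'
      have hvm := L.mem v hv
      have hu : g * lab v * g⁻¹ ∈ nbrs D a := by
        refine ⟨B.conj_mem g _ hvm.1, fun h => hne' (L.inj v hv r hr (mul_left_cancel (mul_right_cancel (h.trans hg.symm)))), ?_⟩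
        rw [← hg, commute_conj_iff]
        exact (L.commute_iff hr hv).2 hrv
      obtain ⟨w, hw, ew⟩ := L.surj _ hu
      have hwp : com p w = true := (L.commute_iff hp hw).1 (by rw [ew, ← ep, commute_conj_iff]; exact hvm.2.2)
      have hwq : com q w = true := (L.commute_iff hq hw).1 (by rw [ew, ← eq, commute_conj_iff]; exact hbv)
      have np : p ≠ w := fun h => hvm.2.1 (mul_left_cancel (mul_right_cancel
        (((h ▸ ep : g * a * g⁻¹ = lab w)).trans ew))).symm
      have nq : q ≠ w := fun h => hab (by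
        rw [mul_left_cancel (mul_right_cancel (((h ▸ eq : g * b * g⁻¹ = lab w)).trans ew))]
        exact hvm.2.2)
      have hz : τ w ∈ std.s := mem_std.2 ⟨hτ.lt w hw,
        adj_iff.2 ⟨fun h => np (hτ.inj p hp w hw (h0.trans h)), by rw [← h0, hτ.com hp hw, hwp]⟩,
        adj_iff.2 ⟨fun h => nq (hτ.inj q hq w hw (h1.trans h)), by rw [← h1, hτ.com hq hw, hwq]⟩⟩
      refine ⟨τ w, hz, L.inj _ (hy _ hz) v hv ?_⟩
      rw [hyx _ hz, hτ.inj _ (hx _ hz) w hw (hxz _ hz), ew]
      group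
    · intro z hz w hw h
      have := congrArg lab h
      rw [hyx z hz, hyx w hw] at this
      rw [← hxz z hz, ← hxz w hw, L.inj _ (hx z hz) _ (hx w hw) (mul_left_cancel (mul_right_cancel this))]
    · intro z hz w hw
      have hm : mul z w ∈ std.s := by
        have h1' := mem_std.1 hz; have h2' := mem_std.1 hw
        obtain ⟨n0, c0⟩ := adj_iff.1 h1'.2.1; obtain ⟨n1, c1⟩ := adj_iff.1 h1'.2.2
        obtain ⟨m0, d0⟩ := adj_iff.1 h2'.2.1; obtain ⟨m1, d1⟩ := adj_iff.1 h2'.2.2
        have f : ∀ o < 693, o ≠ w → com o z = true → com o w = true → adj o (mul z w) = true := by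
          intro o ho how hoz hwo
          have e : mul z o = o := (mul_eq_iff h1'.1 ho).2 (by rw [com_comm h1'.1 ho]; exact hoz)
          refine adj_iff.2 ⟨fun h => how ?_, ?_⟩
          · have := congrArg (mul z) h
            rwa [e, mul_mul_self h1'.1 h2'.1] at this
          · rw [← e, (isAut_mul h1'.1).com ho h2'.1]; exact hwo
        exact mem_std.2 ⟨mul_lt h1'.1 h2'.1, f 0 (by norm_num) m0 c0 d0, f second (by decide) m1 c1 d1⟩
      refine L.inj _ (hy _ hm) _ (mul_lt (hy z hz) (hy w hw)) ?_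
      have hxm : x (mul z w) = mul (x z) (x w) := hτ.inj _ (hx _ hm) _ (mul_lt (hx z hz) (hx w hw))
        (by rw [hxz _ hm, hτ.map _ (hx z hz) _ (hx w hw), hxz z hz, hxz w hw])
      rw [hyx _ hm, hxm, L.map _ (hx z hz) _ (hx w hw), L.map _ (hy z hz) _ (hy w hw), hyx z hz, hyx w hw]
      group

/-- A member at distance two and a neighbour have a common neighbour with `a`. -/
theorem meet {b z c : G} (hb : b ∈ D) (hab : ¬ Commute a b) (hz : z ∈ nbrs D a) (hbz : Commute b z)
    (hc : c ∈ nbrs D a) : ∃ w ∈ nbrs D a, Commute b w ∧ Commute c w := by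
  obtain ⟨lab, L⟩ := B.lab
  obtain ⟨r₀, hr₀, rfl⟩ := L.surj z hz
  obtain ⟨r, hr, rfl⟩ := L.surj c hc
  obtain ⟨σ, hσ, hiff⟩ := cand_classified (B.cand L hb hab ⟨r₀, hr₀, hbz⟩)
  rcases cover_point hσ hr with h | ⟨p, hp, hpr⟩
  · obtain ⟨x, ⟨hx, hbx⟩, hxe⟩ := (hiff _).2 h
    rw [hσ.inj x hx r hr hxe] at hbx
    exact ⟨lab r, L.mem r hr, hbx, Commute.refl _⟩
  · obtain ⟨x, ⟨hx, hbx⟩, rfl⟩ := (hiff _).2 hp
    rw [hσ.com hx hr] at hpr
    exact ⟨lab x, L.mem x hx, hbx, ((L.commute_iff hx hr).2 hpr).symm⟩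

theorem mem_ball_self : a ∈ ball D a := ⟨B.mem, Or.inl (Commute.refl a)⟩

theorem adj_mem_ball {b c : G} (hb : b ∈ ball D a) (hc : c ∈ D) (hbc : Commute b c) : c ∈ ball D a := by
  by_cases hne : c = b
  · exact hne ▸ hb
  refine ⟨hc, ?_⟩
  by_cases hac : Commute a c
  · exact Or.inl hac
  right
  by_cases hab : Commute a b
  · by_cases e : b = a
    · exact absurd (e ▸ hbc) hac
    · exact ⟨b, hb.1, e, fun e' => hac (e' ▸ hab), hab, hbc.symm⟩
  obtain ⟨z, hz, hza, hzb, haz, hbz⟩ := hb.2.resolve_left hab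
  have Bb := B.moved hb.1
  have hcb : c ∈ nbrs D b := ⟨hc, hne, hbc⟩
  obtain ⟨w, hw, haw, hcw⟩ := Bb.meet B.mem (fun h => hab h.symm) ⟨hz, hzb, hbz⟩ haz hcb
  exact ⟨w, hw.1, fun e => hab (e ▸ hw.2.2).symm, fun e => hac (e ▸ haw), haw, hcw⟩


theorem trans_ball {x y : G} (hx : x ∈ ball D a) (hy : y ∈ ball D x) : y ∈ ball D a := by
  rcases hy.2 with h | ⟨z, hz, -, -, hxz, hyz⟩
  · exact B.adj_mem_ball hx hy.1 h
  · exact B.adj_mem_ball (B.adj_mem_ball hx hz hxz) hy.1 hyz.symm

theorem symm_ball {x : G} (hx : x ∈ ball D a) : a ∈ ball D x := by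
  refine ⟨B.mem, ?_⟩
  rcases hx.2 with h | ⟨z, hz, h1, h2, h3, h4⟩
  · exact Or.inl h.symm
  · exact Or.inr ⟨z, hz, h2, h1, h4, h3⟩

/-- Two members of the component commute or generate a dihedral group of order six. -/
theorem ball_cube {x y : G} (hx : x ∈ ball D a) (hy : y ∈ ball D a) : Commute x y ∨ (x * y) ^ 3 = 1 := by
  by_cases hc : Commute x y
  · exact Or.inl hc
  have Bx := B.moved hx.1
  rcases (Bx.trans_ball (B.symm_ball hx) hy).2 with h | ⟨z, hz, hzx, hzy, hxz, hyz⟩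
  · exact absurd h hc
  · exact Or.inr ((B.moved hz).cube x ⟨hx.1, hzx.symm, hxz.symm⟩ y ⟨hy.1, hzy.symm, hyz.symm⟩ hc)

theorem conj_mem_ball {x y : G} (hx : x ∈ ball D a) (hy : y ∈ ball D a) : x * y * x⁻¹ ∈ ball D a := by
  have Bx := B.moved hx.1
  refine B.trans_ball hx ⟨B.conj_mem x y hy.1, ?_⟩
  have e : x * x * x⁻¹ = x := mul_inv_cancel_right x x
  rcases (Bx.trans_ball (B.symm_ball hx) hy).2 with h | ⟨z, hz, hzx, hzy, hxz, hyz⟩
  · left
    rwa [h.eq, mul_inv_cancel_right]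
  · right
    have ez : x * z * x⁻¹ = z := by rw [hxz.eq, mul_inv_cancel_right]
    refine ⟨z, hz, hzx, fun h => hzy (mul_left_cancel (mul_right_cancel (ez.trans h))), hxz, ?_⟩
    rw [← ez]
    exact commute_conj_iff.2 hyz

theorem nbrs_subset_ball {x : G} (hx : x ∈ ball D a) : nbrs D x ⊆ ball D a :=
  fun _ hy => B.adj_mem_ball hx hy.1 hy.2.2

theorem cent_le {x g : G} (hx : x ∈ ball D a) (hg : Commute g x) : g ∈ Subgroup.closure (ball D a) :=
  Subgroup.closure_mono (B.nbrs_subset_ball hx) ((B.moved hx.1).cent g hg)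

theorem conj_ball [Finite G] {g : G} (hg : g ∈ Subgroup.closure (ball D a)) :
    ∀ y ∈ ball D a, g * y * g⁻¹ ∈ ball D a := by
  have hrev : ∀ g : G, (∀ y ∈ ball D a, g * y * g⁻¹ ∈ ball D a) → ∀ y ∈ ball D a,
      g⁻¹ * y * g ∈ ball D a := by
    intro g h y hy
    have hfin : (ball D a).Finite := Set.toFinite _
    have e := Set.eq_of_subset_of_ncard_le (show (fun y => g * y * g⁻¹) '' ball D a ⊆ ball D a by
      rintro _ ⟨z, hz, rfl⟩; exact h z hz)
      (le_of_eq (Set.ncard_image_of_injective _ fun p q h' => mul_left_cancel (mul_right_cancel h')).symm) hfin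
    rw [← e] at hy
    obtain ⟨z, hz, rfl⟩ := hy
    rwa [show g⁻¹ * (g * z * g⁻¹) * g = z by group]
  induction hg using Subgroup.closure_induction with
  | mem x hx => exact fun y hy => B.conj_mem_ball hx hy
  | one => exact fun y hy => by simpa using hy
  | mul g h _ _ ig ih =>
    intro y hy
    rw [show g * h * y * (g * h)⁻¹ = g * (h * y * h⁻¹) * g⁻¹ by group]
    exact ig _ (ih y hy)
  | inv g _ ig =>
    intro y hy
    rw [inv_inv]
    exact hrev g ig y hy


theorem exists_far {x : G} (hx : x ∈ ball D a) : ∃ y ∈ ball D a, ¬ Commute x y := by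
  have Bx := B.moved hx.1
  obtain ⟨lab, L⟩ := Bx.lab
  have hz := B.nbrs_subset_ball hx (L.mem 0 (by norm_num))
  obtain ⟨lab', L'⟩ := (B.moved hz.1).lab
  obtain ⟨r, hr, hrx⟩ := L'.surj x ⟨hx.1, (L.mem 0 (by norm_num)).2.1.symm, (L.mem 0 (by norm_num)).2.2.symm⟩
  obtain ⟨u, hu, h1, -⟩ := exists_apart hr hr
  refine ⟨lab' u, B.nbrs_subset_ball hz (L'.mem u hu), fun hc => ?_⟩
  rw [← hrx, L'.commute_iff hr hu, h1] at hc
  exact Bool.noConfusion hc

theorem conj_far {x y : G} (hx : x ∈ ball D a) (hy : y ∈ ball D a) (hc : ¬ Commute x y) :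
    ∃ g ∈ Subgroup.closure (ball D a), g * x * g⁻¹ = y := by
  rcases B.ball_cube hx hy with h | h
  · exact absurd h hc
  refine ⟨x * y, mul_mem (Subgroup.subset_closure hx) (Subgroup.subset_closure hy), ?_⟩
  rw [pow_succ, pow_two] at h
  rw [mul_inv_rev, B.inv_eq hx.1, B.inv_eq hy.1]
  calc x * y * x * (y * x) = x * y * (x * y) * (x * y) * y⁻¹ := by
        rw [B.inv_eq hy.1]
        simp only [mul_assoc]
        rw [B.sq y hy.1, mul_one]
    _ = y := by rw [h, one_mul, B.inv_eq hy.1]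

theorem conj_in_closure {x y : G} (hx : x ∈ ball D a) (hy : y ∈ ball D a) :
    ∃ g ∈ Subgroup.closure (ball D a), g * x * g⁻¹ = y := by
  by_cases hc : Commute x y
  · by_cases e : x = y
    · exact ⟨1, one_mem _, by simp [e]⟩
    have Bx := B.moved hx.1
    obtain ⟨lab, L⟩ := Bx.lab
    obtain ⟨r, hr, hry⟩ := L.surj y ⟨hy.1, fun h => e h.symm, hc⟩
    obtain ⟨t, ht, htr, hrt⟩ := apart_near hr
    have hz : lab t ∈ ball D a := B.nbrs_subset_ball hx (L.mem t ht)
    obtain ⟨lab', L'⟩ := (B.moved hz.1).lab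
    have hty : Commute (lab t) y := hry ▸ ((L.commute_iff hr ht).2 hrt).symm
    obtain ⟨p, hp, hpx⟩ := L'.surj x ⟨hx.1, (L.mem t ht).2.1.symm, (L.mem t ht).2.2.symm⟩
    obtain ⟨q, hq, hqy⟩ := L'.surj y ⟨hy.1, fun h => htr (L.inj t ht r hr (h.symm.trans hry.symm)), hty⟩
    obtain ⟨u, hu, h1, h2⟩ := exists_apart hp hq
    have hm := B.nbrs_subset_ball hz (L'.mem u hu)
    obtain ⟨g, hg, e1⟩ := B.conj_far hx hm (fun h => by
      rw [← hpx, L'.commute_iff hp hu, h1] at h
      exact Bool.noConfusion h)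
    obtain ⟨k, hk, e2⟩ := B.conj_far hm hy (fun h => by
      have h' := h.symm
      rw [← hqy, L'.commute_iff hq hu, h2] at h'
      exact Bool.noConfusion h')
    exact ⟨k * g, mul_mem hk hg, by rw [← e2, ← e1]; group⟩
  · exact B.conj_far hx hy hc

variable [Finite G]

theorem three_group : IsThreeTranspositionGroup (inBall D a) := by
  refine ⟨⟨fun x hx => ?_, fun x hx y hy => ?_⟩, fun g x hx => ?_, ?_⟩
  · refine orderOf_eq_prime (Subtype.ext (by rw [Subgroup.coe_pow, pow_two]; exact B.sq _ hx.1)) fun h => ?_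
    exact B.ne_one _ hx.1 (congrArg Subtype.val h)
  · rcases B.ball_cube hx hy with h | h
    · refine Or.inl (Subtype.ext ?_)
      rw [Subgroup.coe_pow, Subgroup.coe_mul, h.mul_pow, pow_two, pow_two, B.sq _ hx.1, B.sq _ hy.1, one_mul]
      rfl
    · exact Or.inr (Subtype.ext h)
  · exact B.conj_ball g.2 _ hx
  · rw [eq_top_iff]
    rintro ⟨g, hg⟩ -
    induction hg using Subgroup.closure_induction with
    | mem x hx => exact Subgroup.subset_closure (show (⟨x, Subgroup.subset_closure hx⟩ : ↥(Subgroup.closure (ball D a))) ∈ inBall D a from hx)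
    | one => exact one_mem _
    | mul x y hx hy ix iy => exact mul_mem ix iy
    | inv x hx ix => exact inv_mem ix

theorem primitive : IsPrimitiveUnderConj (inBall D a) := by
  obtain ⟨f, hf, hfa⟩ := B.exists_far B.mem_ball_self
  refine ⟨fun x hx y hy => ?_, ⟨⟨a, Subgroup.subset_closure B.mem_ball_self⟩, B.mem_ball_self,
    ⟨f, Subgroup.subset_closure hf⟩, hf, fun h => hfa ((show a = f from congrArg Subtype.val h) ▸ Commute.refl a)⟩, fun S hS hblock => ?_⟩
  · obtain ⟨g, hg, e⟩ := B.conj_in_closure hx hy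
    exact ⟨⟨g, hg⟩, Subtype.ext e⟩
  by_contra hno
  push Not at hno
  obtain ⟨⟨x, hx, y, hy, hxy⟩, hne⟩ := hno
  have keep : ∀ (g : ↥(Subgroup.closure (ball D a))), ∀ s ∈ S, g * s * g⁻¹ ∈ S → ∀ t ∈ S, g * t * g⁻¹ ∈ S := by
    intro g s hs hgs t ht
    rcases hblock g with h | h
    · exact h ▸ ⟨t, ht, rfl⟩
    · exact absurd hgs (Set.disjoint_left.1 h ⟨s, hs, rfl⟩)
  have sq : ∀ s ∈ S, s * s = (1 : ↥(Subgroup.closure (ball D a))) := fun s hs => Subtype.ext (B.sq _ (hS hs).1)
  have pull : ∀ s ∈ S, ∀ t ∈ S, ∀ v ∈ ball D a, Commute (s : G) v → ¬ Commute (t : G) v →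
      ∀ v' : ↥(Subgroup.closure (ball D a)), (v' : G) = v → v' ∈ S := by
    intro s hs t ht v hv hsv htv v' hv'
    subst hv'
    have hvs : v' * s * v'⁻¹ = s := by
      rw [(show Commute v' s from Subtype.ext hsv.symm.eq).eq, mul_inv_cancel_right]
    have h1 := keep v' s hs (by rw [hvs]; exact hs) t ht
    have h2 := keep t t ht (by rw [mul_inv_cancel_right]; exact ht) _ h1
    rcases B.ball_cube hv (hS ht) with h | h
    · exact absurd h.symm htv
    have e : t * (v' * t * v'⁻¹) * t⁻¹ = v' := by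
      refine Subtype.ext ?_
      show (t : G) * ((v' : G) * t * (v' : G)⁻¹) * (t : G)⁻¹ = v'
      rw [pow_succ, pow_two] at h
      rw [B.inv_eq hv.1, B.inv_eq (hS ht).1]
      calc (t : G) * ((v' : G) * t * v') * t = (v' : G)⁻¹ * ((v' : G) * t * ((v' : G) * t) * ((v' : G) * t)) := by group
        _ = v' := by rw [h, mul_one, B.inv_eq hv.1]
    rwa [e] at h2
  have hpair : ∃ x : ↥(Subgroup.closure (ball D a)), x ∈ S ∧ ∃ y : ↥(Subgroup.closure (ball D a)), y ∈ S ∧ x ≠ y ∧ Commute (x : G) y := by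
    by_cases hc : Commute (x : G) y
    · exact ⟨x, hx, y, hy, hxy, hc⟩
    have Bx := B.moved (hS hx).1
    rcases (Bx.trans_ball (B.symm_ball (hS hx)) (hS hy)).2 with h | ⟨z, hz, hzx, hzy, hxz, hyz⟩
    · exact absurd h hc
    have hzb := B.adj_mem_ball (hS hx) hz hxz
    obtain ⟨lab, L⟩ := (B.moved hz).lab
    obtain ⟨p, hp, hpx⟩ := L.surj (x : G) ⟨(hS hx).1, hzx.symm, hxz.symm⟩
    obtain ⟨q, hq, hqy⟩ := L.surj (y : G) ⟨(hS hy).1, hzy.symm, hyz.symm⟩
    obtain ⟨u, hu, hup, hu1, hu2⟩ : ∃ u < 693, u ≠ p ∧ com p u = true ∧ com q u = false := by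
      by_contra hall
      push Not at hall
      refine hc ?_
      rw [← hpx, ← hqy, double_perp hp hq fun t ht htp htc => by simpa using hall t ht htp htc]
    refine ⟨x, hx, ⟨lab u, Subgroup.subset_closure (B.nbrs_subset_ball hzb (L.mem u hu))⟩,
      pull x hx y hy _ (B.nbrs_subset_ball hzb (L.mem u hu)) (hpx ▸ (L.commute_iff hp hu).2 hu1)
        (fun h => by rw [← hqy, L.commute_iff hq hu, hu2] at h; exact Bool.noConfusion h) _ rfl,
      fun e => hup (L.inj u hu p hp ((congrArg Subtype.val e).symm.trans hpx.symm)), hpx ▸ (L.commute_iff hp hu).2 hu1⟩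
  have grow : ∀ s ∈ S, ∀ t ∈ S, s ≠ t → Commute (s : G) t → ∀ v ∈ nbrs D (s : G),
      ∀ v' : ↥(Subgroup.closure (ball D a)), (v' : G) = v → v' ∈ S := by
    intro s hs t ht hst hc v hv v' hv'
    have hvb := B.nbrs_subset_ball (hS hs) hv
    obtain ⟨lab, L⟩ := (B.moved (hS hs).1).lab
    obtain ⟨p, hp, hpt⟩ := L.surj (t : G) ⟨(hS ht).1, fun e => hst (Subtype.ext e.symm), hc⟩
    obtain ⟨q, hq, hqv⟩ := L.surj v hv
    obtain ⟨u, hu, h1, h2⟩ := exists_apart hp hq
    have hub := B.nbrs_subset_ball (hS hs) (L.mem u hu)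
    have hU := pull s hs t ht _ hub (L.mem u hu).2.2
      (fun h => by rw [← hpt, L.commute_iff hp hu, h1] at h; exact Bool.noConfusion h) ⟨_, Subgroup.subset_closure hub⟩ rfl
    exact pull s hs _ hU v hvb hv.2.2 (fun h => by
      have h' := h.symm
      rw [← hqv] at h'
      change Commute (lab q) (lab u) at h'
      rw [L.commute_iff hq hu, h2] at h'
      exact Bool.noConfusion h') v' hv'
  obtain ⟨x, hx, y, hy, hxy, hc⟩ := hpair
  refine hne (Set.Subset.antisymm hS fun t ht => ?_)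
  have Bx := B.moved (hS hx).1
  by_cases htx : (t : G) = x
  · exact (Subtype.ext htx : t = x) ▸ hx
  rcases (Bx.trans_ball (B.symm_ball (hS hx)) (show (t : G) ∈ ball D a from ht)).2 with h | ⟨z, hz, hzx, hzt, hxz, htz⟩
  · exact grow x hx y hy hxy hc t ⟨ht.1, htx, h⟩ t rfl
  · have hzS := grow x hx y hy hxy hc z ⟨hz, hzx, hxz⟩ ⟨z, Subgroup.subset_closure (B.adj_mem_ball (hS hx) hz hxz)⟩ rfl
    exact grow _ hzS x hx (fun e => hzx (congrArg Subtype.val e)) hxz.symm t ⟨ht.1, hzt.symm, htz.symm⟩ t rfl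

theorem base (σ : ↥(Subgroup.centralizer ({a} : Set G)) →* Q6) (hσ : Function.Surjective σ)
    (hker : ∀ x, σ x = 1 → (x : G) = 1 ∨ (x : G) = a) :
    Nonempty (Base (inBall D a) (⟨a, Subgroup.subset_closure B.mem_ball_self⟩ : ↥(Subgroup.closure (ball D a)))) := by
  set a' : ↥(Subgroup.closure (ball D a)) := ⟨a, Subgroup.subset_closure B.mem_ball_self⟩
  have hle : Subgroup.closure (nbrs (inBall D a) a') ≤ Subgroup.centralizer {a'} :=
    (Subgroup.closure_le _).2 fun y hy => Subgroup.mem_centralizer_singleton_iff.2 hy.2.2.symm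
  let ι : ↥(Subgroup.closure (nbrs (inBall D a) a')) →* ↥(Subgroup.centralizer ({a} : Set G)) :=
    { toFun := fun y => ⟨((y : ↥(Subgroup.closure (ball D a))) : G), Subgroup.mem_centralizer_singleton_iff.2
        (congrArg Subtype.val (Subgroup.mem_centralizer_singleton_iff.1 (hle y.2)))⟩
      map_one' := rfl
      map_mul' := fun _ _ => rfl }
  have hι : Function.Surjective ι := by
    rintro ⟨g, hg⟩
    have h := B.cent g (Subgroup.mem_centralizer_singleton_iff.1 hg)
    have hmap : (Subgroup.closure (nbrs (inBall D a) a')).map (Subgroup.closure (ball D a)).subtype =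
        Subgroup.closure (nbrs D a) := by
      rw [MonoidHom.map_closure]
      congr 1
      ext z
      constructor
      · rintro ⟨y, ⟨hy, hne, hc⟩, rfl⟩
        exact ⟨hy.1, fun e => hne (Subtype.ext e), congrArg Subtype.val hc.eq⟩
      · intro hz
        have hzb := B.nbrs_subset_ball B.mem_ball_self hz
        exact ⟨⟨z, Subgroup.subset_closure hzb⟩, ⟨hzb, fun e => hz.2.1 (congrArg Subtype.val e), Subtype.ext hz.2.2.eq⟩, rfl⟩
    rw [← hmap] at h
    obtain ⟨y, hy, rfl⟩ := h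
    exact ⟨⟨y, hy⟩, rfl⟩
  refine ⟨{ grp := B.three_group, prim := B.primitive, centre := ?_, mem := B.mem_ball_self
            proj := σ.comp ι, surj := hσ.comp hι, kerLe := ?_ }⟩
  · rw [eq_bot_iff]
    intro z hz
    rw [Subgroup.mem_bot]
    rw [Subgroup.mem_center_iff] at hz
    have hc : ∀ y ∈ ball D a, Commute (z : G) y := fun y hy =>
      (congrArg Subtype.val (hz ⟨y, Subgroup.subset_closure hy⟩)).symm
    rcases B.central (z : G) (hc a B.mem_ball_self) (fun y hy => hc y (B.nbrs_subset_ball B.mem_ball_self hy)) with e | e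
    · exact Subtype.ext e
    · exfalso
      obtain ⟨f, hf, hfa⟩ := B.exists_far B.mem_ball_self
      exact hfa (e ▸ hc f hf)
  · intro y hy
    rw [Subgroup.mem_center_iff]
    intro x
    refine Subtype.ext (Subtype.ext ?_)
    show ((x : ↥(Subgroup.closure (ball D a))) : G) * ((y : ↥(Subgroup.closure (ball D a))) : G) = _
    rcases hker (ι y) hy with e | e
    · change ((y : ↥(Subgroup.closure (ball D a))) : G) = 1 at e
      show _ = ((y : ↥(Subgroup.closure (ball D a))) : G) * _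
      rw [e, mul_one, one_mul]
    · change ((y : ↥(Subgroup.closure (ball D a))) : G) = a at e
      show _ = ((y : ↥(Subgroup.closure (ball D a))) : G) * _
      rw [e]
      exact congrArg Subtype.val (Subgroup.mem_centralizer_singleton_iff.1 (hle x.2))

end Hood

end CfsgLib.Recog.FiTrans22
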