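import Cfsg.Agent.Lib.Recog.FiTrans22.PointChecks
import Cfsg.Agent.Lib.Recog.FiM22.Factor.Classes
import Cfsg.Agent.Lib.Recog.FiM22.ReadOff

/-!
# A fourth member beside a triple

For three commuting members of a group of type M(22) a fourth one commutes with them all, and its product with the
three is no product of two members (owner: helper13).
-/

set_option autoImplicit false
set_option maxRecDepth 20000

namespace CfsgLib.Recog.FiTrans22

open Cfsg CfsgLib.ThreeTrans CfsgLib.Recog.FiM22 CfsgLib.Recog.SporBound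
open CfsgLib.Recog.FiM22.Factor (ComList NoRel Pre nb)
open CfsgLib.ThreeTrans.CosetIndex (forallFrom forallFrom_elim)

variable {Q : Type*} [Group Q] [Finite Q] {E : Set Q}

/-- Six members commute with a member and two of its neighbours. -/
theorem six_common {a : Q} {lab : ℕ → Q} (L : Labelled E a lab) {r s : ℕ} (hr : r < 693) (hs : s < 693)
    (h : com r s = true) : ∃ F : Finset Q, 6 ≤ F.card ∧ ∀ f ∈ F, f ∈ nbrs E a ∧ Commute f (lab r) ∧ Commute f (lab s) := by
  classical
  obtain ⟨σ, hσ, h0⟩ := exists_aut_zero hr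
  have hc := forallFrom_elim nb_checked (Nat.zero_le (σ s)) (by have := hσ.lt s hs; omega)
  rw [nbOK, ← h0, hσ.com hr hs, h, Bool.not_true, Bool.false_or, Nat.ble_eq] at hc
  rw [h0] at hc
  set T := (Finset.range 693).filter fun u => (com r u && com s u) = true with hT
  refine ⟨T.image lab, ?_, fun f hf => ?_⟩
  · have hsub : ((Finset.range 693).filter fun v => (com 0 v && com (σ s) v) = true) ⊆ T.image σ := by
      intro v hv
      obtain ⟨hv1, hv2⟩ := Finset.mem_filter.1 hv
      obtain ⟨u, hu, rfl⟩ := hσ.surj (Finset.mem_range.1 hv1)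
      refine Finset.mem_image.2 ⟨u, Finset.mem_filter.2 ⟨Finset.mem_range.2 hu, ?_⟩, rfl⟩
      rwa [← h0, hσ.com hr hu, hσ.com hs hu] at hv2
    rw [Finset.card_image_of_injOn fun u hu v hv e =>
      L.inj u (Finset.mem_range.1 (Finset.mem_filter.1 hu).1) v (Finset.mem_range.1 (Finset.mem_filter.1 hv).1) e]
    refine le_trans ?_ ((Finset.card_le_card hsub).trans Finset.card_image_le)
    rw [List.countP_eq_length_filter] at hc
    refine le_trans hc (le_of_eq ?_)
    rw [← List.toFinset_card_of_nodup ((List.nodup_range).filter _)]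
    congr 1
    ext v
    simp
  · obtain ⟨u, hu, rfl⟩ := Finset.mem_image.1 hf
    obtain ⟨hu1, hu2⟩ := Finset.mem_filter.1 hu
    rw [Finset.mem_range] at hu1
    rw [Bool.and_eq_true] at hu2
    exact ⟨L.mem u hu1, ((L.commute_iff hr hu1).2 hu2.1).symm, ((L.commute_iff hs hu1).2 hu2.2).symm⟩

theorem exists_fourth_at (hD : IsThreeTranspositionGroup E) (hprim : IsPrimitiveUnderConj E) {a c₀ b c : Q}
    (P : Pre E a c₀) (B : Base E a) (h : ComList E [a, b, c]) :
    ∃ f ∈ E, Commute f (a * b * c) ∧ ∀ p q : Q, ComList E [p, q] → f * (a * b * c) ≠ p * q := by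
  classical
  obtain ⟨lab, L⟩ := B.exists_labelled
  have hn := h.nodup
  simp only [List.nodup_cons, List.mem_cons, List.not_mem_nil, or_false, not_or, List.nodup_nil, and_true] at hn
  obtain ⟨⟨hab, hac⟩, hbc, -⟩ := hn
  have hbn : b ∈ nb E a := ⟨h.mem b (by simp), hab ∘ Eq.symm, h.comm a (by simp) b (by simp)⟩
  have hcn : c ∈ nb E a := ⟨h.mem c (by simp), hac ∘ Eq.symm, h.comm a (by simp) c (by simp)⟩
  have hbcc : Commute b c := h.comm b (by simp) c (by simp)
  obtain ⟨r, hr, hrb⟩ := L.surj b hbn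
  obtain ⟨s, hs, hsc⟩ := L.surj c hcn
  obtain ⟨F, hF, hFm⟩ := six_common L hr hs ((L.commute_iff hr hs).1 (by rw [hrb, hsc]; exact hbcc))
  obtain ⟨u, v, w, h6, h6p⟩ := Factor.six_exists hprim P hbn hcn hbc hbcc
  obtain ⟨f, hfF, hf5⟩ : ∃ f ∈ F, f ∉ ({b, c, u, v, w} : Finset Q) := by
    by_contra hno
    push Not at hno
    have h5 : ({b, c, u, v, w} : Finset Q).card ≤ 5 := Finset.card_le_five
    have := Finset.card_le_card (show F ⊆ ({b, c, u, v, w} : Finset Q) from hno)
    omega
  simp only [Finset.mem_insert, Finset.mem_singleton, not_or] at hf5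
  obtain ⟨hfn, hfb, hfc⟩ := hFm f hfF
  rw [hrb] at hfb
  rw [hsc] at hfc
  have hfE : f ∈ E := hfn.1
  have hft : Commute f (a * b * c) := (hfn.2.2.symm.mul_right hfb).mul_right hfc
  refine ⟨f, hfE, hft, fun p q hpq e => ?_⟩
  have hS := hD.1
  have hfpq : Commute f (p * q) := e ▸ (Commute.refl f).mul_right hft
  have hcp := hpq.commute_each hS (by simp) hfE (by simpa using hfpq)
  have hfp : Commute f p := hcp p (by simp)
  have hfq : Commute f q := hcp q (by simp)
  have hpqc : Commute p q := hpq.comm p (by simp) q (by simp)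
  have hff : f * f = 1 := mul_self hS hfE
  have ht : a * b * c = f * (p * q) := by rw [← e, ← mul_assoc, hff, one_mul]
  have hN : ∀ {k : ℕ}, 3 ≤ k → k ≤ 5 → NoRel E k := fun h3 h5 => P.noRel h3 h5
  have one : ∀ x ∈ E, a * b * c ≠ x := fun x hx ex =>
    Factor.length_unique hS (hN le_rfl (by norm_num)) (hN (by norm_num) (by norm_num)) (hN (by norm_num) le_rfl)
      (l := [x]) ⟨by simp, by simpa using hx, by simp⟩ h (by simp) (by simp) (by simp) (by simpa [mul_assoc] using ex.symm)
  by_cases h1 : f = p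
  · exact one q (hpq.mem q (by simp)) (by rw [ht, h1, ← mul_assoc, mul_self hS (hpq.mem p (by simp)), one_mul])
  by_cases h2 : f = q
  · exact one p (hpq.mem p (by simp)) (by
      rw [ht, h2, hpqc.eq, ← mul_assoc, mul_self hS (hpq.mem q (by simp)), one_mul])
  have hl : ComList E [f, p, q] := by
    refine ⟨?_, ?_, ?_⟩
    · have := hpq.nodup
      simp only [List.nodup_cons, List.mem_cons, List.not_mem_nil, or_false, not_or, List.nodup_nil, and_true] at this ⊢
      exact ⟨⟨h1, h2⟩, this.1, not_false⟩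
    · intro x hx
      rcases List.mem_cons.1 hx with rfl | hx
      exacts [hfE, hpq.mem x hx]
    · intro x hx y hy
      simp only [List.mem_cons, List.not_mem_nil, or_false] at hx hy
      rcases hx with rfl | rfl | rfl <;> rcases hy with rfl | rfl | rfl
      exacts [Commute.refl _, hfp, hfq, hfp.symm, Commute.refl _, hpqc, hfq.symm, hpqc.symm, Commute.refl _]
  rcases Factor.same_or_disjoint hS (hN (by norm_num) (by norm_num)) h hl (m := 3) (by simp) (by simp) le_rfl
      (by simpa [mul_assoc] using ht) with hs' | ⟨-, -, hl6, hp6⟩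
  · have := (hs' f).2 (by simp)
    simp only [List.mem_cons, List.not_mem_nil, or_false] at this
    rcases this with h' | h' | h'
    exacts [hfn.2.1 h', hf5.1 h', hf5.2.1 h']
  · have := Factor.six_unique P h6 h6p hl6 hp6 f (by simp)
    simp only [List.mem_cons, List.not_mem_nil, or_false] at this
    rcases this with h' | h' | h'
    exacts [hf5.2.2.1 h', hf5.2.2.2.1 h', hf5.2.2.2.2 h']

/-- A fourth member commutes with a triple and its product with the triple is no pair. -/
theorem exists_fourth (hD : IsThreeTranspositionGroup E) (hprim : IsPrimitiveUnderConj E) (h22 : IsOfTypeM22 Q E)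
    {a b c : Q} (h : ComList E [a, b, c]) :
    ∃ f ∈ E, Commute f (a * b * c) ∧ ∀ p q : Q, ComList E [p, q] → f * (a * b * c) ≠ p * q := by
  have hd1 := Factor.diff_one (D := E) hD.1
  obtain ⟨a₀, c₀, ⟨P⟩⟩ := Factor.exists_pre h22 (by rw [hd1]; exact hD)
  rw [hd1] at P
  obtain ⟨B⟩ := FiM22.exists_base_at hD hprim h22 P.mema
  obtain ⟨g, hg⟩ := hprim.1 a (h.mem a (by simp)) a₀ P.mema
  subst hg
  obtain ⟨f, hf, hfc, hfp⟩ := exists_fourth_at hD hprim P B (b := g * b * g⁻¹) (c := g * c * g⁻¹)
    (h.conj hD.2.1 g)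
  have hmul : g * a * g⁻¹ * (g * b * g⁻¹) * (g * c * g⁻¹) = g * (a * b * c) * g⁻¹ := by group
  rw [hmul] at hfc hfp
  refine ⟨g⁻¹ * f * g, by simpa using hD.2.1 g⁻¹ f hf, ?_, fun p q hpq e => ?_⟩
  · rw [← commute_conj_iff (g := g), conj_cancel]
    exact hfc
  · refine hfp (g * p * g⁻¹) (g * q * g⁻¹) (hpq.conj hD.2.1 g) ?_
    calc f * (g * (a * b * c) * g⁻¹) = g * (g⁻¹ * f * g * (a * b * c)) * g⁻¹ := by group
      _ = g * (p * q) * g⁻¹ := by rw [e]
      _ = _ := by group

end CfsgLib.Recog.FiTrans22
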