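import Cfsg.Agent.Lib.Recog.FiTrans22.Setting
import Cfsg.Agent.Lib.Recog.FiTrans22.Exit
import Cfsg.Agent.Lib.Recog.FiTrans22.Fourth
import Cfsg.Agent.Lib.Recog.FiM22Two.Involutions
import Cfsg.Agent.Lib.Recog.FiTypes.Type22

/-!
# A group with an involution centraliser 2.PSU(6, 2) is Fi22 (owner: helper13)
-/

set_option autoImplicit false
set_option maxRecDepth 20000

namespace CfsgLib.Recog.FiTrans22

open Cfsg CfsgLib.ThreeTrans CfsgLib.Recog.FiM22 CfsgLib.Recog.SporBound
open CfsgLib.Recog.FiM22.Factor (ComList NoRel)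

/-- The image of the standard class under an isomorphism from Fi22 is of type M(22). -/
theorem type_of_equiv {Q : Type*} [Group Q] {E : Set Q} (e : Spor.Fi22 ≃* Q)
    (he : e '' conjugatesOf (Fi22Group.a 0) = E) : IsOfTypeM22 Q E := by
  have h := FiTypes.type22_congr (φ := FiThree.Aut.quotEquiv.symm.trans e) FiTypes.type22
  rw [← FiTypes.quotEquiv_class, Set.image_image] at h
  simpa [he] using h

variable {G : Type*} [Group G] [Finite G] {d : G}

namespace Data

variable (X : Data d)
include X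

theorem prod_evG (l : List ℕ) : (l.map X.P.evG).prod = X.P.evG (l.foldr Nat.xor 0) := by
  induction l with
  | nil =>
    rw [List.map_nil, List.prod_nil, List.foldr_nil]
    exact (congrArg Subtype.val X.P.ev_zero).symm
  | cons v l ih =>
    rw [List.map_cons, List.prod_cons, List.foldr_cons, ih]
    exact (X.P.evG_xor v _).symm

/-- The group of the component is of type M(22). -/
theorem type22 : IsThreeTranspositionGroup (inBall (conjugatesOf d) d) ∧
    IsPrimitiveUnderConj (inBall (conjugatesOf d) d) ∧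
    IsOfTypeM22 ↥(Subgroup.closure (ball (conjugatesOf d) d)) (inBall (conjugatesOf d) d) ∧
    Nonempty (Spor.Fi22 ≃* ↥(Subgroup.closure (ball (conjugatesOf d) d))) := by
  obtain ⟨B⟩ := X.base
  obtain ⟨e, -, he⟩ := FiM22.identify B
  exact ⟨B.grp, B.prim, type_of_equiv e he, ⟨e⟩⟩

theorem mem_ball {x : G} (hx : x ∈ conjugatesOf d) (hxH : x ∈ Subgroup.closure (ball (conjugatesOf d) d)) :
    x ∈ ball (conjugatesOf d) d := by
  obtain ⟨hgrp, hprim, h22, -⟩ := X.type22
  set H := Subgroup.closure (ball (conjugatesOf d) d)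
  have h2 : orderOf (⟨x, hxH⟩ : H) = 2 := by
    rw [Subgroup.orderOf_mk]
    exact orderOf_eq_prime (by rw [pow_two]; exact X.sq_conj hx) (X.hood.ne_one x hx)
  obtain ⟨l, hl, h1, -, hp⟩ := FiM22Two.involution_factor hgrp hprim h22 h2
  obtain ⟨e, he⟩ := List.exists_mem_of_length_pos (l := l) (by omega)
  have hc : Commute e (⟨x, hxH⟩ : H) := hp ▸ Commute.list_prod_right _ _ fun y hy => hl.comm e he y hy
  exact X.hood.adj_mem_ball (hl.mem e he) hx (hc.map H.subtype)

theorem transH {x : G} (hx : x ∈ conjugatesOf d) (hxH : x ∈ Subgroup.closure (ball (conjugatesOf d) d)) :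
    ∃ h ∈ Subgroup.closure (ball (conjugatesOf d) d), h * x * h⁻¹ = d := by
  obtain ⟨-, hprim, -, -⟩ := X.type22
  obtain ⟨h, hh⟩ := hprim.1 ⟨x, hxH⟩ (X.mem_ball hx hxH) ⟨d, Subgroup.subset_closure X.hood.mem_ball_self⟩
    X.hood.mem_ball_self
  exact ⟨h, h.2, congrArg Subtype.val hh⟩

theorem cent_member {x : G} (hx : x ∈ conjugatesOf d) (hxH : x ∈ Subgroup.closure (ball (conjugatesOf d) d))
    (g : G) (hg : Commute g x) : g ∈ Subgroup.closure (ball (conjugatesOf d) d) :=
  X.hood.cent_le (X.mem_ball hx hxH) hg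

theorem controlled {x : G} (hx : x ∈ conjugatesOf d) (hxH : x ∈ Subgroup.closure (ball (conjugatesOf d) d)) :
    Controlled (Subgroup.closure (ball (conjugatesOf d) d)) x :=
  controlled_member X.conj_closed mem_conjugatesOf_self (Subgroup.subset_closure X.hood.mem_ball_self)
    (fun _ h h' => X.transH h h') (fun _ h h' => X.cent_member h h') hx hxH

/-- The centraliser of the product of the involution and a member of the module. -/
theorem pair_cent_std {v : G} (hv : v ∈ conjugatesOf d) (hvA : v ∈ X.P.AG) (hne : d ≠ v) :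
    ∀ g : G, Commute g (d * v) → g ∈ Subgroup.closure (ball (conjugatesOf d) d) := by
  obtain ⟨hgrp, hprim, h22, -⟩ := X.type22
  obtain ⟨k, hk, hS, h22'⟩ := X.P.classify_22 X.coe X.fused
  set H := Subgroup.closure (ball (conjugatesOf d) d)
  have hd : d ∈ conjugatesOf d := mem_conjugatesOf_self
  have hdH : d ∈ H := Subgroup.subset_closure X.hood.mem_ball_self
  have hAc : ∀ a ∈ X.P.AG, ∀ b ∈ X.P.AG, Commute a b := fun a ha b hb =>
    congrArg Subtype.val (X.P.isElem_AG.1.is_comm.comm (⟨a, ha⟩ : X.P.AG) ⟨b, hb⟩)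
  have hdA : d ∈ X.P.AG := by
    have := X.P.evG_mem (v := 1) (by norm_num)
    rwa [X.P.evG_one X.coe] at this
  have hdv : Commute d v := hAc d hdA v hvA
  have hvH : v ∈ H := X.cent_member hd hdH v hdv.symm
  have sq := fun x (hx : x ∈ conjugatesOf d) => X.sq_conj hx
  refine pair_cent (sq d hd) (sq v hv) (X.hood.ne_one d hd) (X.hood.ne_one v hv) hne hdv (X.controlled hd hdH)
    (X.controlled hv hvH) (fun g hg hc => ?_) X.P.isElem_AG (fun a ha => hAc a ha _ (mul_mem hdA hvA))
    fun B hB hidx => ?_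
  · let dH : H := ⟨d, hdH⟩
    let vH : H := ⟨v, hvH⟩
    let gH : H := ⟨g, hg⟩
    have hl : ComList (inBall (conjugatesOf d) d) [dH, vH] := by
      refine ⟨by simpa using fun e : dH = vH => hne (congrArg Subtype.val e), ?_, ?_⟩
      · intro x hx
        simp only [List.mem_cons, List.not_mem_nil, or_false] at hx
        rcases hx with rfl | rfl
        exacts [X.hood.mem_ball_self, X.mem_ball hv hvH]
      · intro x hx y hy
        simp only [List.mem_cons, List.not_mem_nil, or_false] at hx hy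
        rcases hx with rfl | rfl <;> rcases hy with rfl | rfl
        exacts [Commute.refl _, Subtype.ext hdv.eq, Subtype.ext hdv.symm.eq, Commute.refl _]
    have heq : ([dH, vH].map (MulAut.conj gH)).prod = [dH, vH].prod := by
      rw [FiM22Two.prod_conj]
      simp only [List.prod_cons, List.prod_nil, mul_one]
      have hcH : Commute gH (dH * vH) := Subtype.ext hc.eq
      rw [hcH.eq, mul_inv_cancel_right]
    rcases Factor.same_or_disjoint hgrp.1 (Factor.m22_noRel hgrp h22) (hl.conj hgrp.2.1 gH) hl (m := 2) (by simp)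
      (by simp) (by norm_num) heq with h | ⟨h, -⟩
    · have := (h (MulAut.conj gH dH)).1 (List.mem_map.2 ⟨dH, by simp, rfl⟩)
      simp only [List.mem_cons, List.not_mem_nil, or_false] at this
      exact this.imp (congrArg Subtype.val) (congrArg Subtype.val)
    · omega
  · have hodd := odd_checked X.P.c X.P.hc k hk
    rw [oddB, h22'] at hodd
    simp only [Nat.beq_refl, Bool.not_true, Bool.false_or, Bool.and_eq_true, Nat.beq_eq, List.all_eq_true,
      Nat.blt_eq] at hodd
    obtain ⟨⟨hlen, hsum⟩, hall⟩ := hodd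
    obtain ⟨s, hs, hsB⟩ := exists_mem_of_odd_relation hB hidx ((oddL X.P.c k).map X.P.evG)
      (fun s hs => by
        obtain ⟨w, hw, rfl⟩ := List.mem_map.1 hs
        exact X.P.evG_mem (hall w hw).1)
      (by rw [List.length_map, hlen]; decide)
      (by rw [X.prod_evG, hsum]; exact congrArg Subtype.val X.P.ev_zero)
    obtain ⟨w, hw, rfl⟩ := List.mem_map.1 hs
    obtain ⟨hw', hwS⟩ := hall w hw
    have hwD : X.P.evG w ∈ conjugatesOf d := (hS w hw').1 hwS
    exact ⟨_, hsB, X.controlled hwD (X.cent_member hd hdH _ (hAc _ (X.P.evG_mem hw') d hdA))⟩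

/-- The centraliser of a pair. -/
theorem pair_cent_all {w : G} (hw : IsPair (conjugatesOf d) (Subgroup.closure (ball (conjugatesOf d) d)) w) :
    ∀ g : G, Commute g w → g ∈ Subgroup.closure (ball (conjugatesOf d) d) := by
  obtain ⟨p, q, hp, hpH, hq, hqH, hne, hpq, rfl⟩ := hw
  set H := Subgroup.closure (ball (conjugatesOf d) d)
  have hd : d ∈ conjugatesOf d := mem_conjugatesOf_self
  have hdH : d ∈ H := Subgroup.subset_closure X.hood.mem_ball_self
  obtain ⟨h, hh, hhp⟩ := X.transH hp hpH
  set x := h * q * h⁻¹ with hx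
  have hdx : Commute d x := by
    rw [← hhp]
    exact hpq.map (MulAut.conj h).toMonoidHom
  have hxD : x ∈ conjugatesOf d := X.conj_closed h q hq
  let xC : ↥(Subgroup.centralizer ({d} : Set G)) := ⟨x, Subgroup.mem_centralizer_singleton_iff.2 hdx.symm⟩
  obtain ⟨c, hc⟩ := X.P.involution_conj (y := xC) (Subtype.ext (X.sq_conj hxD))
  have hcd : Commute (c : G) d := Subgroup.mem_centralizer_singleton_iff.1 c.2
  have hkH : (c : G) * h ∈ H := mul_mem (X.cent_member hd hdH _ hcd) hh
  have hkp : (c : G) * h * p * ((c : G) * h)⁻¹ = d := by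
    rw [show (c : G) * h * p * ((c : G) * h)⁻¹ = c * (h * p * h⁻¹) * (c : G)⁻¹ by group, hhp, hcd.eq,
      mul_inv_cancel_right]
  intro g hg
  have hvA : (c : G) * h * q * ((c : G) * h)⁻¹ ∈ X.P.AG := by
    refine ⟨_, hc, ?_⟩
    show (c : G) * x * (c : G)⁻¹ = _
    rw [hx]
    group
  have key := X.pair_cent_std (X.conj_closed _ q hq) hvA
    (fun e => hne (mul_left_cancel (mul_right_cancel (hkp.trans e)))) ((c : G) * h * g * ((c : G) * h)⁻¹) (by
    have e2 : (c : G) * h * (p * q) * ((c : G) * h)⁻¹ = d * ((c : G) * h * q * ((c : G) * h)⁻¹) :=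
      calc (c : G) * h * (p * q) * ((c : G) * h)⁻¹
          = (c : G) * h * p * ((c : G) * h)⁻¹ * ((c : G) * h * q * ((c : G) * h)⁻¹) := by group
        _ = d * ((c : G) * h * q * ((c : G) * h)⁻¹) := congrArg (· * _) hkp
    exact e2 ▸ commute_conj_iff.2 hg)
  have := mul_mem (mul_mem (inv_mem hkH) key) hkH
  rwa [show ((c : G) * h)⁻¹ * ((c : G) * h * g * ((c : G) * h)⁻¹) * ((c : G) * h) = g by group] at this

theorem enclosed : Enclosed (conjugatesOf d) (Subgroup.closure (ball (conjugatesOf d) d)) d := by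
  obtain ⟨hgrp, hprim, h22, -⟩ := X.type22
  set H := Subgroup.closure (ball (conjugatesOf d) d)
  have hball : ∀ p q : G, ∀ hp : p ∈ conjugatesOf d, ∀ hpH : p ∈ H, ∀ hq : q ∈ conjugatesOf d, ∀ hqH : q ∈ H,
      p ≠ q → Commute p q → ComList (inBall (conjugatesOf d) d) [(⟨p, hpH⟩ : H), ⟨q, hqH⟩] := by
    intro p q hp hpH hq hqH hne hc
    refine ⟨by simpa using hne, ?_, ?_⟩
    · intro x hx
      simp only [List.mem_cons, List.not_mem_nil, or_false] at hx
      rcases hx with rfl | rfl
      exacts [X.mem_ball hp hpH, X.mem_ball hq hqH]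
    · intro x hx y hy
      simp only [List.mem_cons, List.not_mem_nil, or_false] at hx hy
      rcases hx with rfl | rfl <;> rcases hy with rfl | rfl
      exacts [Commute.refl _, Subtype.ext hc.eq, Subtype.ext hc.symm.eq, Commute.refl _]
  refine ⟨X.conj_closed, fun x hx => X.sq_conj hx, X.hood.ne_one, mem_conjugatesOf_self,
    Subgroup.subset_closure X.hood.mem_ball_self, fun x hx => ?_, fun x hx hxH => X.transH hx hxH,
    fun x hx hxH => X.cent_member hx hxH, fun w hw => X.pair_cent_all hw, fun w hw hwD => ?_, ?_,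
    fun t ht h2 h1 => ?_⟩
  · obtain ⟨g, hg⟩ := isConj_iff.1 (show IsConj d x from hx).symm
    exact ⟨g, hg⟩
  · obtain ⟨p, q, hp, hpH, hq, hqH, hne, hc, rfl⟩ := hw
    have hl := hball p q hp hpH hq hqH hne hc
    have hwH : p * q ∈ H := mul_mem hpH hqH
    obtain ⟨a, b, ⟨P⟩⟩ := Factor.exists_pre h22 (by rw [Factor.diff_one hgrp.1]; exact hgrp)
    rw [Factor.diff_one hgrp.1] at P
    refine Factor.length_unique hgrp.1 (P.noRel le_rfl (by norm_num)) (P.noRel (by norm_num) (by norm_num))
      (P.noRel (by norm_num) le_rfl) (l := [(⟨p * q, hwH⟩ : H)]) ⟨by simp, ?_, by simp⟩ hl (by simp) (by simp)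
      (by simp) (by simp)
    intro x hx
    simp only [List.mem_cons, List.not_mem_nil, or_false] at hx
    subst hx
    exact X.mem_ball hwD hwH
  · obtain ⟨g, hg, hgd⟩ := X.fused
    exact ⟨_, isConj_iff.2 ⟨g, rfl⟩, hgd, (Subgroup.mem_centralizer_singleton_iff.1 hg).symm⟩
  · have hto : orderOf (⟨t, ht⟩ : H) = 2 := by
      rw [Subgroup.orderOf_mk]; exact orderOf_eq_prime (by rw [pow_two]; exact h2) h1
    obtain ⟨l, hl, hl1, hl3, hp⟩ := FiM22Two.involution_factor hgrp hprim h22 hto
    have hmem : ∀ x ∈ l, (x : G) ∈ conjugatesOf d := fun x hx => (hl.mem x hx).1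
    match l, hl, hl1, hl3, hp, hmem with
    | [], _, hl1, _, _, _ => simp at hl1
    | [a], _, _, _, hp, hmem =>
      left
      have := hmem a (by simp)
      rwa [show a = (⟨t, ht⟩ : H) by simpa using hp] at this
    | [a, b], hl, _, _, hp, hmem =>
      refine Or.inr (Or.inl ⟨a, b, hmem a (by simp), a.2, hmem b (by simp), b.2, fun e => ?_, ?_, ?_⟩)
      · have := hl.nodup
        simp only [List.nodup_cons, List.mem_singleton] at this
        exact this.1 (Subtype.ext e)
      · exact congrArg Subtype.val (hl.comm a (by simp) b (by simp)).eq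
      · simpa using (congrArg Subtype.val hp).symm
    | [a, b, c], hl, _, _, hp, hmem =>
      refine Or.inr (Or.inr ?_)
      obtain ⟨f, hf, hfc, hfp⟩ := exists_fourth hgrp hprim h22 hl
      have hab := hl.comm a (by simp) b (by simp)
      have hac := hl.comm a (by simp) c (by simp)
      have htv : t = (a : G) * b * c := by simpa [mul_assoc] using (congrArg Subtype.val hp).symm
      have hn := hl.nodup
      simp only [List.nodup_cons, List.mem_cons, List.not_mem_nil, or_false, not_or, List.nodup_nil, and_true] at hn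
      refine ⟨a, f, hmem a (by simp), a.2, hf.1, f.2, ?_, ?_, ⟨b, c, hmem b (by simp), b.2, hmem c (by simp), c.2,
        fun e => hn.2.1 (Subtype.ext e), congrArg Subtype.val (hl.comm b (by simp) c (by simp)).eq, ?_⟩, ?_⟩
      · rw [htv]
        exact congrArg Subtype.val (((Commute.refl a).mul_right hab).mul_right hac).eq
      · rw [htv]
        exact congrArg Subtype.val hfc.eq
      · rw [htv, ← mul_assoc, ← mul_assoc, X.sq_conj (hmem a (by simp)), one_mul]
      · rintro ⟨p, q, hp', hpH, hq', hqH, hne, hc', e⟩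
        rw [htv] at e
        exact hfp ⟨p, hpH⟩ ⟨q, hqH⟩ (hball p q hp' hpH hq' hqH hne hc') (Subtype.ext e)
    | _ :: _ :: _ :: _ :: _, _, _, hl3, _, _ => simp only [List.length_cons] at hl3; omega

/-- The component is the whole group. -/
theorem ball_top : Subgroup.closure (ball (conjugatesOf d) d) = ⊤ := X.enclosed.eq_top

theorem main : Spor.IsoFi22 G ∧ IsThreeTranspositionClass (conjugatesOf d) ∧ IsOfTypeM22 G (conjugatesOf d) := by
  obtain ⟨hgrp, -, h22, ⟨e⟩⟩ := X.type22
  have htop := X.ball_top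
  have hball : ∀ x ∈ conjugatesOf d, x ∈ ball (conjugatesOf d) d := fun x hx =>
    X.mem_ball hx (htop ▸ Subgroup.mem_top x)
  let ψ : ↥(Subgroup.closure (ball (conjugatesOf d) d)) ≃* G :=
    (MulEquiv.subgroupCongr htop).trans Subgroup.topEquiv
  have hψ : ∀ x, ψ x = (x : G) := fun _ => rfl
  have himg : ψ '' inBall (conjugatesOf d) d = conjugatesOf d := by
    ext x
    constructor
    · rintro ⟨y, hy, rfl⟩
      exact hy.1
    · exact fun hx => ⟨⟨x, htop ▸ Subgroup.mem_top x⟩, hball x hx, rfl⟩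
  refine ⟨⟨ψ.symm.trans e.symm⟩, ⟨⟨fun x hx => orderOf_eq_prime (by rw [pow_two]; exact X.sq_conj hx)
    (X.hood.ne_one x hx), fun x hx y hy => ?_⟩, ⟨d, mem_conjugatesOf_self, rfl⟩, ?_⟩, himg ▸ FiTypes.type22_congr ψ h22⟩
  · rw [← himg] at hx hy
    obtain ⟨x, hx, rfl⟩ := hx
    obtain ⟨y, hy, rfl⟩ := hy
    exact (hgrp.1.2 x hx y hy).imp (fun h => by rw [← map_mul, ← map_pow, h, map_one])
      (fun h => by rw [← map_mul, ← map_pow, h, map_one])
  · exact eq_top_iff.2 (htop ▸ Subgroup.closure_mono fun x hx => hx.1)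

end Data

end CfsgLib.Recog.FiTrans22
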