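import Cfsg.Agent.Lib.ZStar.Main
import Cfsg.Agent.Lib.Signalizer.Basic

/-!
# Subgroups controlling involutions

A subgroup `H` controls an element `x` of itself when it contains the centraliser of `x` and only its own members
conjugate `x` into it. Two criteria for the centraliser of a product of controlled involutions to lie in `H`
(owner: helper13).
-/

set_option autoImplicit false

namespace CfsgLib.Recog.FiTrans22

variable {G : Type*} [Group G] {H : Subgroup G}

/-- `H` contains the centraliser of `x`, and only members of `H` conjugate `x` into `H`. -/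
structure Controlled (H : Subgroup G) (x : G) : Prop where
  mem : x ∈ H
  cent : ∀ g : G, Commute g x → g ∈ H
  conj : ∀ g : G, g * x * g⁻¹ ∈ H → g ∈ H

/-- A member whose centraliser lies in `H` is controlled when every involution of `H` commutes with a controlled
element. -/
theorem Controlled.of_cent {x : G} (hx : x ∈ H) (hx2 : x * x = 1) (hx1 : x ≠ 1)
    (hcx : ∀ g : G, Commute g x → g ∈ H)
    (hH : ∀ t ∈ H, t * t = 1 → t ≠ 1 → ∃ e, Controlled H e ∧ Commute e t) : Controlled H x := by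
  refine ⟨hx, hcx, fun g hg => ?_⟩
  have h2 : g * x * g⁻¹ * (g * x * g⁻¹) = 1 := by
    rw [show g * x * g⁻¹ * (g * x * g⁻¹) = g * (x * x) * g⁻¹ by group, hx2, mul_one, mul_inv_cancel]
  have h1 : g * x * g⁻¹ ≠ 1 := fun h => hx1 (conj_eq_one_iff.1 h)
  obtain ⟨e, he, hc⟩ := hH _ hg h2 h1
  have hc' : Commute (g⁻¹ * e * g) x := by
    have := hc.map (MulAut.conj g⁻¹).toMonoidHom
    simpa [mul_assoc] using this
  have := he.conj g⁻¹ (by simpa using hcx _ hc')
  simpa using inv_mem this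

theorem conj_zpow_self {a y : G} (ha : a * a = 1) (hy : y * y = 1) (i : ℤ) :
    (a * y) ^ i * a * ((a * y) ^ i)⁻¹ = (a * y) ^ (2 * i) * a := by
  have h : a * (a * y) * a⁻¹ = (a * y)⁻¹ := by
    rw [mul_inv_rev, inv_eq_of_mul_eq_one_right ha, inv_eq_of_mul_eq_one_right hy, ← mul_assoc, ha, one_mul]
  have h2 : ∀ j : ℤ, a * (a * y) ^ j = (a * y) ^ (-j) * a := fun j => by
    rw [zpow_neg, ← inv_zpow, ← h, conj_zpow, inv_mul_cancel_right]
  rw [← zpow_neg, mul_assoc, h2, neg_neg, ← mul_assoc, ← zpow_add, two_mul]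

/-- Two involutions are conjugate in the group they generate, or their product has a central power. -/
theorem dihedral_cases [Finite G] {a y : G} (ha : a * a = 1) (hy : y * y = 1) :
    (∃ i : ℤ, (a * y) ^ i * a * ((a * y) ^ i)⁻¹ = y) ∨
      ∃ j : G, j ≠ 1 ∧ j * j = 1 ∧ Commute j a ∧ Commute j y ∧ (∃ k : ℤ, j = (a * y) ^ k) ∧
        ((∃ i : ℤ, (a * y) ^ i * a * ((a * y) ^ i)⁻¹ = j * a) ∨
          ∃ i : ℤ, (a * y) ^ i * a * ((a * y) ^ i)⁻¹ = y * j) := by
  set r := a * y with hr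
  have hy' : y = a * r := by rw [hr, ← mul_assoc, ha, one_mul]
  have hpow : r ^ (orderOf r : ℤ) = 1 := by rw [zpow_natCast, pow_orderOf_eq_one]
  have h2 : ∀ j : ℤ, a * r ^ j = r ^ (-j) * a := fun j => by
    have h := conj_zpow_self ha hy 0
    have e : a * r * a⁻¹ = r⁻¹ := by
      rw [hr, mul_inv_rev, inv_eq_of_mul_eq_one_right ha, inv_eq_of_mul_eq_one_right hy, ← mul_assoc, ha, one_mul]
    rw [zpow_neg, ← inv_zpow, ← e, conj_zpow, inv_mul_cancel_right]
  have hya : y = r ^ (-1 : ℤ) * a := by rw [← h2, zpow_one, ← hy']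
  rcases Nat.even_or_odd' (orderOf r) with ⟨m, hm | hm⟩
  · right
    have hne : orderOf r ≠ 0 := (orderOf_pos r).ne'
    refine ⟨r ^ (m : ℤ), ?_, ?_, ?_, ?_, ⟨_, rfl⟩, ?_⟩
    · rw [zpow_natCast]
      exact pow_ne_one_of_lt_orderOf (by omega) (by omega)
    · rw [← zpow_add, show (m : ℤ) + m = (orderOf r : ℤ) by push_cast [hm]; ring, hpow]
    · show r ^ (m : ℤ) * a = a * r ^ (m : ℤ)
      rw [h2, ← mul_one (r ^ (-(m : ℤ))), ← hpow, ← zpow_add, hm]
      push_cast
      rw [show -(m : ℤ) + 2 * m = m by ring]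
    · have hinv : r ^ (-(m : ℤ)) = r ^ (m : ℤ) := by
        rw [← mul_one (r ^ (-(m : ℤ))), ← hpow, ← zpow_add, hm]
        push_cast
        rw [show -(m : ℤ) + 2 * m = m by ring]
      show r ^ (m : ℤ) * y = y * r ^ (m : ℤ)
      rw [hya, mul_assoc (r ^ (-1 : ℤ)) a, h2, hinv, ← mul_assoc, ← mul_assoc, ← zpow_add, ← zpow_add,
        add_comm]
    · rcases Nat.even_or_odd' m with ⟨l, hl | hl⟩
      · refine Or.inl ⟨(l : ℤ), ?_⟩
        rw [conj_zpow_self ha hy, hl]
        push_cast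
        rfl
      · refine Or.inr ⟨-((l : ℤ) + 1), ?_⟩
        rw [conj_zpow_self ha hy, ← hr, hya, mul_assoc (r ^ (-1 : ℤ)) a, h2, ← mul_assoc, ← zpow_add, hl]
        push_cast
        congr 2
        ring
  · left
    refine ⟨(m : ℤ), ?_⟩
    rw [conj_zpow_self ha hy, ← hr, hya]
    congr 1
    calc r ^ (2 * (m : ℤ)) = r ^ (2 * (m : ℤ)) * r ^ (1 : ℤ) * r ^ (-1 : ℤ) := by
          rw [← zpow_add, ← zpow_add]; congr 1; ring
      _ = r ^ (-1 : ℤ) := by
          rw [← zpow_add, show 2 * (m : ℤ) + 1 = (orderOf r : ℤ) by push_cast [hm]; ring, hpow, one_mul]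

/-- The step of the descent: enlarging a set of commuting elements by a product with a controlled pair. -/
theorem step [Finite G] {D : Set G} (hDc : ∀ g : G, ∀ x ∈ D, g * x * g⁻¹ ∈ D) (hD2 : ∀ x ∈ D, x * x = 1)
    (hDH : ∀ x ∈ D, x ∈ H → Controlled H x) {K : Set G} {a p q : G} (ha : a ∈ D) (haH : a ∈ H)
    (hp : p ∈ D) (hq : q ∈ D) (hqH : q ∈ H) (hpq : Commute p q) (hw : Controlled H (p * q)) (hwD : p * q ∉ D)
    (haK : ∀ k ∈ K, Commute a k) (hwK : ∀ k ∈ K, Commute (p * q) k)
    (hinv : ∀ j ∈ H, j * j = 1 → j ≠ 1 → Commute j a → Controlled H j ∨ j * a ∉ D)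
    (hsplit : ∀ x ∈ D, x ∈ H → Commute x (p * q) → Commute x p ∧ Commute x q)
    (hext : ∀ x ∈ D, x ∈ H → Commute x p → Commute x q → (∀ k ∈ K, Commute x k) → x ≠ p → x ≠ q →
      ∀ g : G, (∀ k ∈ K, Commute g k) → Commute g (p * q * x) → g ∈ H) :
    ∀ g : G, (∀ k ∈ K, Commute g k) → g ∈ H := by
  intro g hg
  by_contra hgH
  set w := p * q with hwdef
  have hw2 : w * w = 1 := by
    rw [hwdef, mul_assoc, ← mul_assoc q, ← hpq.eq, mul_assoc p, hD2 q hq, mul_one, hD2 p hp]
  set y := g * w * g⁻¹ with hydef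
  have hy2 : y * y = 1 := by
    rw [hydef, show g * w * g⁻¹ * (g * w * g⁻¹) = g * (w * w) * g⁻¹ by group, hw2, mul_one, mul_inv_cancel]
  have hyH : y ∉ H := fun h => hgH (hw.conj g h)
  have hycent : ∀ k ∈ K, Commute y k := fun k hk =>
    ((hg k hk).mul_left (hwK k hk)).mul_left (hg k hk).inv_left
  have hr : ∀ k ∈ K, ∀ i : ℤ, Commute ((a * y) ^ i) k := fun k hk i =>
    ((haK k hk).mul_left (hycent k hk)).zpow_left i
  rcases dihedral_cases (hD2 a ha) hy2 with ⟨i, hi⟩ | ⟨j, hj1, hj2, hja, hjy, ⟨e, hje⟩, hcase⟩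
  · refine hwD ?_
    have h := hDc (g⁻¹ * (a * y) ^ i) a ha
    rw [show g⁻¹ * (a * y) ^ i * a * (g⁻¹ * (a * y) ^ i)⁻¹ = g⁻¹ * ((a * y) ^ i * a * ((a * y) ^ i)⁻¹) * g by group,
      hi, hydef] at h
    rwa [show g⁻¹ * (g * w * g⁻¹) * g = w by group] at h
  have hjH : j ∈ H := (hDH a ha haH).cent j hja
  rcases hinv j hjH hj2 hj1 hja with hjc | hjD
  · exact hyH (hjc.cent y hjy.symm)
  rcases hcase with ⟨i, hi⟩ | ⟨i, hi⟩
  · exact hjD (hi ▸ hDc _ a ha)
  set x := g⁻¹ * (y * j) * g with hxdef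
  have hxD : x ∈ D := by
    have h := hDc (g⁻¹ * (a * y) ^ i) a ha
    rwa [show g⁻¹ * (a * y) ^ i * a * (g⁻¹ * (a * y) ^ i)⁻¹ = g⁻¹ * ((a * y) ^ i * a * ((a * y) ^ i)⁻¹) * g by group,
      hi] at h
  set j' := g⁻¹ * j * g with hj'def
  have hxj : x = w * j' := by rw [hxdef, hj'def, hydef]; group
  have hj'w : Commute j' w := by
    have := hjy.map (MulAut.conj g⁻¹).toMonoidHom
    simpa [hydef, hj'def, mul_assoc] using this
  have hxw : Commute x w := hxj ▸ (Commute.refl w).mul_left hj'w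
  have hxH : x ∈ H := hw.cent x hxw
  obtain ⟨hxp, hxq⟩ := hsplit x hxD hxH hxw
  have hjK : ∀ k ∈ K, Commute j k := fun k hk => hje ▸ hr k hk e
  have hj'K : ∀ k ∈ K, Commute j' k := fun k hk =>
    ((hg k hk).inv_left.mul_left (hjK k hk)).mul_left (hg k hk)
  have hxK : ∀ k ∈ K, Commute x k := fun k hk => hxj ▸ (hwK k hk).mul_left (hj'K k hk)
  have hj'wx : j' = w * x := by rw [hxj, ← mul_assoc, hw2, one_mul]
  -- the small cases give a controlled conjugate of `j`
  have small : ∀ z ∈ D, z ∈ H → j' = z → False := by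
    intro z hz hzH he
    have hgz : g * z * g⁻¹ ∈ H := by
      rw [← he, hj'def, show g * (g⁻¹ * j * g) * g⁻¹ = j by group]
      exact hjH
    exact hgH ((hDH z hz hzH).conj g hgz)
  have hpH : p ∈ H := by simpa [hwdef] using mul_mem hw.mem (inv_mem hqH)
  by_cases hxp' : x = p
  · refine small q hq hqH ?_
    rw [hj'wx, hxp', hwdef, hpq.eq, mul_assoc, hD2 p hp, mul_one]
  by_cases hxq' : x = q
  · refine small p hp hpH ?_
    rw [hj'wx, hxq', hwdef, mul_assoc, hD2 q hq, mul_one]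
  have ha' : Commute (g⁻¹ * a * g) (w * x) := by
    rw [← hj'wx, hj'def]
    have := hja.symm.map (MulAut.conj g⁻¹).toMonoidHom
    simpa [mul_assoc] using this
  have h := hext x hxD hxH hxp hxq hxK hxp' hxq' (g⁻¹ * a * g)
    (fun k hk => ((hg k hk).inv_left.mul_left (haK k hk)).mul_left (hg k hk)) ha'
  have := (hDH a ha haH).conj g⁻¹ (by simpa using h)
  exact hgH (by simpa using inv_mem this)

/-- A subgroup of index at most two contains a member of every odd list of product one. -/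
theorem exists_mem_of_odd_relation {A B : Subgroup G} (hBA : B ≤ A) (hidx : B.relIndex A ≤ 2)
    [Finite G] (l : List G) (hl : ∀ s ∈ l, s ∈ A) (hodd : Odd l.length) (hone : l.prod = 1) : ∃ s ∈ l, s ∈ B := by
  by_contra hno
  push Not at hno
  have h0 : B.relIndex A ≠ 0 := Subgroup.index_ne_zero_of_finite
  have hA1 : B.relIndex A = 1 ∨ B.relIndex A = 2 := by omega
  rcases hA1 with h | h
  · obtain ⟨s, hs⟩ := List.exists_mem_of_ne_nil l (fun e => by simp [e] at hodd)
    exact hno s hs (Subgroup.relIndex_eq_one.1 h (hl s hs))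
  have key : ∀ m : List G, (∀ s ∈ m, s ∈ A ∧ s ∉ B) → ∀ hm : m.prod ∈ A, (m.prod ∈ B ↔ Even m.length) := by
    intro m
    induction m with
    | nil => intros; simp
    | cons s m ih =>
      intro hs hm
      have hsA := hs s List.mem_cons_self
      have hmA : m.prod ∈ A := list_prod_mem fun t ht => (hs t (List.mem_cons_of_mem _ ht)).1
      rw [List.prod_cons, List.length_cons, Nat.even_add_one, ← ih (fun t ht => hs t (List.mem_cons_of_mem _ ht)) hmA]
      have := Subgroup.mul_mem_iff_of_index_two (H := B.subgroupOf A) h (a := ⟨s, hsA.1⟩) (b := ⟨m.prod, hmA⟩)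
      simp only [Subgroup.mem_subgroupOf, Subgroup.coe_mul] at this
      rw [this]
      simp [hsA.2]
  have := (key l (fun s hs => ⟨hl s hs, hno s hs⟩) (hone ▸ one_mem A)).1 (hone ▸ one_mem B)
  exact Nat.not_even_iff_odd.2 hodd this

/-- The centraliser of the product of a controlled pair. -/
theorem pair_cent [Finite G] {p q : G} (hp2 : p * p = 1) (hq2 : q * q = 1) (hp1 : p ≠ 1) (hq1 : q ≠ 1) (hne : p ≠ q) (hpq : Commute p q)
    (hp : Controlled H p) (hq : Controlled H q)
    (hswap : ∀ g ∈ H, Commute g (p * q) → g * p * g⁻¹ = p ∨ g * p * g⁻¹ = q)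
    {A : Subgroup G} (hA : Cfsg.IsElementaryAbelian 2 A) (hAi : ∀ v ∈ A, Commute v (p * q))
    (hhyp : ∀ B : Subgroup G, B ≤ A → B.relIndex A ≤ 2 → ∃ s ∈ B, Controlled H s) :
    ∀ g : G, Commute g (p * q) → g ∈ H := by
  haveI : Fact (Nat.Prime 2) := ⟨Nat.prime_two⟩
  set i := p * q with hidef
  have hpi : Commute p i := (Commute.refl p).mul_right hpq
  have hi1 : i ≠ 1 := fun h => hne (by
    calc p = i * q := by rw [hidef, mul_assoc, hq2, mul_one]
      _ = q := by rw [h, one_mul])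
  have hi2 : i * i = 1 := by
    rw [hidef, mul_assoc, ← mul_assoc q, ← hpq.eq, mul_assoc p, hq2, mul_one, hp2]
  set L := Subgroup.centralizer ({i} : Set G) with hL
  have memL : ∀ g, g ∈ L ↔ Commute g i := fun g => Subgroup.mem_centralizer_singleton_iff
  let iL : L := ⟨i, (memL i).2 (Commute.refl i)⟩
  let pL : L := ⟨p, (memL p).2 hpi⟩
  let Z : Subgroup L := Subgroup.zpowers iL
  have hZ : ∀ z : L, z ∈ Z ↔ z = 1 ∨ z = iL := by
    intro z
    constructor
    · rintro ⟨k, rfl⟩
      have h2 : iL * iL = 1 := Subtype.ext hi2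
      rcases Int.even_or_odd k with ⟨c, rfl⟩ | ⟨c, rfl⟩
      · exact Or.inl (by show iL ^ (c + c) = 1; rw [zpow_add, ← (Commute.refl iL).mul_zpow, h2, one_zpow])
      · exact Or.inr (by show iL ^ (2 * c + 1) = iL
                         rw [zpow_add, zpow_mul, zpow_two, h2, one_zpow, one_mul, zpow_one])
    · rintro (rfl | rfl)
      · exact one_mem Z
      · exact Subgroup.mem_zpowers iL
  haveI hZn : Z.Normal := ⟨fun z hz x => by
    rcases (hZ z).1 hz with rfl | rfl
    · simp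
    · have e : x * iL = iL * x := Subtype.ext ((memL x.1).1 x.2).eq
      rw [e, mul_inv_cancel_right]; exact hz⟩
  -- elements of `L` carrying `p` into the pair lie in `H`
  have hto : ∀ x : L, ((x : G) * p * (x : G)⁻¹ = p ∨ (x : G) * p * (x : G)⁻¹ = q) → (x : G) ∈ H := fun x h => by
    rcases h with e | e
    · exact hp.conj _ (by rw [e]; exact hp.mem)
    · exact hp.conj _ (by rw [e]; exact hq.mem)
  let π := QuotientGroup.mk' Z
  have hiso : Cfsg.IsIsolatedInvolution (π pL) := by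
    refine ⟨orderOf_eq_prime ?_ ?_, fun gb hc => ?_⟩
    · rw [pow_two, ← map_mul, show pL * pL = 1 from Subtype.ext hp2, map_one]
    · intro h
      rcases (hZ pL).1 ((QuotientGroup.eq_one_iff pL).1 h) with e | e
      · exact hp1 (congrArg Subtype.val e)
      · exact hq1 (mul_eq_left.1 (show p = p * q from congrArg Subtype.val e).symm)
    obtain ⟨g, rfl⟩ : ∃ g, π g = gb := QuotientGroup.mk'_surjective Z gb
    rw [← map_inv, ← map_mul, ← map_mul] at hc ⊢
    set p' := (g : G) * p * (g : G)⁻¹ with hp'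
    have hp'2 : p' * p' = 1 := by
      rw [hp', show (g : G) * p * (g : G)⁻¹ * ((g : G) * p * (g : G)⁻¹) = (g : G) * (p * p) * (g : G)⁻¹ by group, hp2,
        mul_one, mul_inv_cancel]
    have hmem : (pL * (g * pL * g⁻¹)) * (pL * (g * pL * g⁻¹)) ∈ Z := by
      rw [← QuotientGroup.eq_one_iff]
      show π _ = 1
      have hsq : ∀ x : L, x * x = 1 → π x * π x = 1 := fun x hx => by rw [← map_mul, hx, map_one]
      rw [map_mul, map_mul]
      calc π pL * π (g * pL * g⁻¹) * (π pL * π (g * pL * g⁻¹))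
          = π pL * (π (g * pL * g⁻¹) * π pL) * π (g * pL * g⁻¹) := by simp only [mul_assoc]
        _ = π pL * π pL * (π (g * pL * g⁻¹) * π (g * pL * g⁻¹)) := by rw [← hc.eq]; simp only [mul_assoc]
        _ = 1 := by rw [hsq _ (Subtype.ext hp2), hsq _ (Subtype.ext hp'2), one_mul]
    rcases (hZ _).1 hmem with e | e
    · have hcomm : Commute p' p := by
        have e' : p * p' * (p * p') = 1 := congrArg Subtype.val e
        have h := eq_inv_of_mul_eq_one_left e'
        rw [mul_inv_rev, inv_eq_of_mul_eq_one_right hp2, inv_eq_of_mul_eq_one_right hp'2] at h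
        exact h.symm
      have hgH : (g : G) ∈ H := hp.conj _ (hp.cent p' hcomm)
      rcases hswap g hgH ((memL _).1 g.2) with h | h
      · exact congrArg π (Subtype.ext h)
      · refine QuotientGroup.eq.2 ((hZ _).2 (Or.inr (Subtype.ext ?_)))
        show p'⁻¹ * p = i
        rw [inv_eq_of_mul_eq_one_right hp'2, hp', h, hidef, hpq.eq]
    · exfalso
      have e' : p * p' * (p * p') = i := congrArg Subtype.val e
      have hu : (p * p') * p * (p * p')⁻¹ = q := by
        rw [mul_inv_rev, inv_eq_of_mul_eq_one_right hp2, inv_eq_of_mul_eq_one_right hp'2,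
          show p * p' * p * (p' * p) = p * p' * (p * p') * p by simp only [mul_assoc], e', hidef, hpq.eq, mul_assoc,
          hp2, mul_one]
      have hgH : (g : G) ∈ H := by
        refine hp.conj _ ?_
        have := mul_mem hp.mem (hp.conj _ (hu ▸ hq.mem))
        rwa [← mul_assoc, hp2, one_mul] at this
      have hc' : Commute p p' := by
        rcases hswap g hgH ((memL _).1 g.2) with h | h <;> rw [hp', h]
        exact hpq
      rw [mul_assoc, ← mul_assoc p', ← hc'.eq, mul_assoc p, hp'2, mul_one, hp2] at e'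
      exact hi1 e'.symm
  -- the preimage of the odd core
  let O : Subgroup (L ⧸ Z) := Cfsg.oddCore (L ⧸ Z)
  haveI : O.Normal := by unfold O; unfold Cfsg.oddCore; infer_instance
  have hOodd : Odd (Nat.card O) := CfsgLib.ZStar.odd_card_oddCore _
  let N : Subgroup L := O.comap π
  let φ : N →* O := (π.comp N.subtype).codRestrict O fun n => n.2
  set o := Nat.card O with ho
  have hpowZ : ∀ n : N, (n : L) ^ o ∈ Z := fun n => by
    rw [← QuotientGroup.eq_one_iff]
    show π ((n : L) ^ o) = 1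
    rw [map_pow]
    exact congrArg Subtype.val (pow_card_eq_one' (x := φ n))
  have hNH : ∀ n : N, ((n : L) : G) ∈ H := by
    obtain ⟨K, hK⟩ := Subgroup.exists_right_complement'_of_coprime (N := Z.subgroupOf N) (by
      have hcZ : Nat.card (Z.subgroupOf N) ∣ 2 := by
        rw [Nat.card_congr (Subgroup.subgroupOfEquivOfLe (show Z ≤ N from fun z hz => by
          show π z ∈ O
          rw [show π z = 1 from (QuotientGroup.eq_one_iff z).2 hz]; exact one_mem O)).toEquiv, Nat.card_zpowers]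
        exact orderOf_dvd_of_pow_eq_one (by rw [pow_two]; exact Subtype.ext hi2)
      have hidx : (Z.subgroupOf N).index ∣ Nat.card O := by
        have hker : φ.ker = Z.subgroupOf N := by
          ext n
          rw [MonoidHom.mem_ker, Subgroup.mem_subgroupOf, ← QuotientGroup.eq_one_iff]
          exact Subtype.ext_iff
        rw [← hker, Subgroup.index_ker]
        exact Subgroup.card_subgroup_dvd_card _
      exact Nat.Coprime.coprime_dvd_left hcZ (Nat.Coprime.coprime_dvd_right hidx hOodd.coprime_two_left))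
    let X : Subgroup G := (K.map N.subtype).map L.subtype
    have hKodd : ∀ k : N, k ∈ K ↔ (k : L) ^ o = 1 := by
      have hsplit : ∀ n : N, ∃ z k : N, (z : L) ∈ Z ∧ k ∈ K ∧ n = z * k := fun n => by
        obtain ⟨⟨⟨z, hz⟩, ⟨k, hk⟩⟩, e⟩ := hK.2 n
        exact ⟨z, k, hz, hk, e.symm⟩
      have hKpow : ∀ k : N, k ∈ K → (k : L) ^ o = 1 := fun k hk => by
        have hm : (⟨(k : L) ^ o, (k ^ o).2⟩ : N) ∈ Z.subgroupOf N ⊓ K :=
          ⟨hpowZ k, by
            show (⟨(k : L) ^ o, _⟩ : N) ∈ K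
            exact pow_mem hk o⟩
        rw [disjoint_iff.1 hK.disjoint, Subgroup.mem_bot] at hm
        exact congrArg Subtype.val hm
      intro n
      refine ⟨hKpow n, fun hn => ?_⟩
      obtain ⟨z, k, hz, hk, rfl⟩ := hsplit n
      have hc : Commute (z : L) (k : L) := by
        rcases (hZ _).1 hz with e | e <;> rw [e]
        · exact Commute.one_left _
        · exact (Subtype.ext ((memL _).1 (k : L).2).eq : (k : L) * iL = iL * k).symm
      rw [show ((z * k : N) : L) = (z : L) * k from rfl, hc.mul_pow, hKpow k hk, mul_one] at hn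
      rcases (hZ _).1 hz with e | e
      · rwa [show z = 1 from Subtype.ext e, one_mul]
      · exfalso
        obtain ⟨c, hc'⟩ := hOodd
        rw [e, hc', pow_succ, pow_mul, pow_two, show iL * iL = 1 from Subtype.ext hi2, one_pow, one_mul] at hn
        exact hi1 (congrArg Subtype.val hn)
    have hmemX : ∀ x : G, x ∈ X ↔ ∃ k : N, k ∈ K ∧ ((k : L) : G) = x := by
      intro x
      simp [X, Subgroup.mem_map]
    have hXL : ∀ x ∈ X, Commute x i := fun x hx => by
      obtain ⟨k, -, rfl⟩ := (hmemX x).1 hx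
      exact (memL _).1 (k : L).2
    have hXodd : ¬ 2 ∣ Nat.card X := by
      intro h2
      obtain ⟨t, ht⟩ := exists_prime_orderOf_dvd_card' 2 h2
      obtain ⟨k, hk, hkt⟩ := (hmemX t.1).1 t.2
      have hd : orderOf (t : G) ∣ o := orderOf_dvd_of_pow_eq_one (by
        rw [← hkt, ← SubmonoidClass.coe_pow, (hKodd k).1 hk]; rfl)
      rw [Subgroup.orderOf_coe, ht] at hd
      exact Nat.two_dvd_ne_zero.2 (Nat.odd_iff.1 hOodd) hd
    have hAX : A ≤ Subgroup.normalizer (X : Set G) := by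
      intro v hv
      have hfwd : ∀ u ∈ A, ∀ x ∈ X, u * x * u⁻¹ ∈ X := fun u hu x hx => by
        obtain ⟨k, hk, rfl⟩ := (hmemX x).1 hx
        let uL : L := ⟨u, (memL u).2 (hAi u hu)⟩
        have hmem : uL * (k : L) * uL⁻¹ ∈ N := by
          show π _ ∈ O
          rw [map_mul, map_mul, map_inv]
          exact Subgroup.Normal.conj_mem inferInstance _ k.2 _
        refine (hmemX _).2 ⟨⟨_, hmem⟩, (hKodd _).2 ?_, rfl⟩
        show (uL * (k : L) * uL⁻¹) ^ o = 1
        rw [conj_pow, (hKodd k).1 hk, mul_one, mul_inv_cancel]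
      refine Subgroup.mem_normalizer_iff.2 fun x => ⟨hfwd v hv x, fun h => ?_⟩
      have := hfwd v⁻¹ (inv_mem hv) _ h
      rwa [show v⁻¹ * (v * x * v⁻¹) * v⁻¹⁻¹ = x by group] at this
    have hXH : X ≤ H := CfsgLib.Signalizer.le_of_hyperplanes_le hA hXodd hAX fun B hB hidx x hx => by
      obtain ⟨s, hsB, hs⟩ := hhyp B hB hidx
      exact hs.cent x (Subgroup.mem_centralizer_iff.1 hx.2 s hsB).symm
    intro n
    obtain ⟨⟨⟨z, hz⟩, ⟨k, hk⟩⟩, rfl⟩ := hK.2 n
    refine mul_mem ?_ (hXH ((hmemX _).2 ⟨k, hk, rfl⟩))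
    rcases (hZ _).1 (Subgroup.mem_subgroupOf.1 hz) with e | e
    · show ((z : L) : G) ∈ H
      rw [e]; exact one_mem H
    · show ((z : L) : G) ∈ H
      rw [e]; exact mul_mem hp.mem hq.mem
  -- every element is one of the core times one fixing the pair
  intro g hg
  let gL : L := ⟨g, (memL g).2 hg⟩
  have hcore : π pL * π gL * (π pL)⁻¹ * (π gL)⁻¹ ∈ O := CfsgLib.ZStar.mem_oddCore_of_isolated hiso (π gL)
  set s := π gL * π pL * (π gL)⁻¹ with hs
  have hpp : π pL * π pL = 1 := by rw [← map_mul, show pL * pL = 1 from Subtype.ext hp2, map_one]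
  have hss : s * s = 1 := by
    rw [hs, show π gL * π pL * (π gL)⁻¹ * (π gL * π pL * (π gL)⁻¹) = π gL * (π pL * π pL) * (π gL)⁻¹ by group, hpp,
      mul_one, mul_inv_cancel]
  have hrO : π pL * s ∈ O := by
    rw [hs]
    nth_rewrite 2 [← inv_eq_of_mul_eq_one_right hpp]
    simpa [mul_assoc] using hcore
  obtain ⟨z, hzO, hz⟩ : ∃ z ∈ O, z * π pL * z⁻¹ = s := by
    rcases dihedral_cases hpp hss with ⟨k, hk⟩ | ⟨j, hj1, hj2, -, -, ⟨k, hk⟩, -⟩
    · exact ⟨_, zpow_mem hrO k, hk⟩
    · exfalso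
      have hd : orderOf (⟨j, hk ▸ zpow_mem hrO k⟩ : O) ∣ o := orderOf_dvd_natCard _
      rw [Subgroup.orderOf_mk, orderOf_eq_prime (by rw [pow_two, hj2]) hj1] at hd
      exact Nat.two_dvd_ne_zero.2 (Nat.odd_iff.1 hOodd) hd
  obtain ⟨n, rfl⟩ : ∃ n, π n = z := QuotientGroup.mk'_surjective Z z
  have hfix : π (n⁻¹ * gL * pL * (n⁻¹ * gL)⁻¹) = π pL := by
    simp only [map_mul, map_inv, mul_inv_rev, inv_inv]
    calc _ = (π n)⁻¹ * s * π n := by rw [hs]; group
      _ = π pL := by rw [← hz]; group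
  have hx : ((n⁻¹ * gL : L) : G) ∈ H := by
    refine hto _ ?_
    have hm := QuotientGroup.eq.1 hfix.symm
    rcases (hZ _).1 hm with e | e
    · exact Or.inl (congrArg Subtype.val (inv_mul_eq_one.1 e).symm)
    · refine Or.inr ?_
      have h := congrArg Subtype.val (inv_mul_eq_iff_eq_mul.1 e)
      rw [Subgroup.coe_mul, Subgroup.coe_mul, Subgroup.coe_mul] at h
      change ((n⁻¹ * gL : L) : G) * p * ((n⁻¹ * gL : L) : G)⁻¹ = p * i at h
      rw [h, hidef, ← mul_assoc, hp2, one_mul]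
  have := mul_mem (hNH ⟨n, hzO⟩) hx
  simpa [gL] using this

end CfsgLib.Recog.FiTrans22
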