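import Cfsg.Agent.Lib.Recog.FiM22.Factor.Triples
import Cfsg.Agent.Lib.Recog.UsixMult.Plane.Fusion

/-!
# Finite checks on the 22 vectors (owner: helper13)
-/

set_option autoImplicit false
set_option maxRecDepth 20000

namespace CfsgLib.Recog.FiTrans22

open Cfsg CfsgLib.ThreeTrans CfsgLib.Recog.FiM22 CfsgLib.Recog.SporBound CfsgLib.Recog.SporBound.Fi22U6
open CfsgLib.ThreeTrans.CosetIndex (forallFrom forallFrom_elim)

/-- In a union of orbits of size 22 the vectors other than the central one are single lifts of points. -/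
def pointB (c k : ℕ) : Bool :=
  !Nat.beq (UsixMult.Plane.size c k) 22 || (List.range 1024).all fun v =>
    Nat.ble v 1 || !UsixMult.Plane.inS c k v ||
      (!UsixMult.Plane.inS c k (Nat.xor v 1) &&
        (List.range 21).any fun j => Nat.beq (v / 2) (UsixMult.Plane.pV.getD j (0, false, false)).1)

theorem point_checked : ∀ c < 3, ∀ k < 32, pointB c k = true := by decide +kernel

/-- Seven vectors of a union of orbits of size 22 with sum zero. -/
def oddL : ℕ → ℕ → List ℕ
  | 2, 1 => [1, 2, 4, 32, 439, 633, 1001]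
  | 2, 2 => [1, 3, 5, 33, 438, 632, 1000]
  | _, 1 => [1, 2, 4, 32, 366, 725, 924]
  | _, _ => [1, 3, 5, 33, 367, 724, 925]

/-- The check of the seven vectors. -/
def oddB (c k : ℕ) : Bool :=
  !Nat.beq (UsixMult.Plane.size c k) 22 ||
    (Nat.beq (oddL c k).length 7 && Nat.beq ((oddL c k).foldr Nat.xor 0) 0 &&
      (oddL c k).all fun v => Nat.blt v 1024 && UsixMult.Plane.inS c k v)

theorem odd_checked : ∀ c < 3, ∀ k < 32, oddB c k = true := by decide +kernel

end CfsgLib.Recog.FiTrans22
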