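import Cfsg.Agent.Lib.Recog.FiM22.Factor.Triples

/-!
# Finite checks on the points (owner: helper13)
-/

set_option autoImplicit false
set_option maxRecDepth 20000

namespace CfsgLib.Recog.FiTrans22

open Cfsg CfsgLib.ThreeTrans CfsgLib.Recog.FiM22 CfsgLib.Recog.SporBound CfsgLib.Recog.SporBound.Fi22U6
open CfsgLib.ThreeTrans.CosetIndex (forallFrom forallFrom_elim)

/-- The standard point braids with the points not commuting with it. -/
noncomputable def braidOK (s : ℕ) : Bool := com 0 s || Nat.beq (mul 0 s) (mul s 0)

theorem braid_checked : forallFrom braidOK 0 693 = true := by decide +kernel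

/-- Noncommuting points braid. -/
theorem braid_points {r s : ℕ} (hr : r < 693) (hs : s < 693) (h : com r s = false) : mul r s = mul s r := by
  obtain ⟨σ, hσ, h0⟩ := exists_aut_zero hr
  have hc := forallFrom_elim braid_checked (Nat.zero_le (σ s)) (by have := hσ.lt s hs; omega)
  rw [braidOK, ← h0, hσ.com hr hs, h, Bool.false_or, Nat.beq_eq, ← hσ.map r hr s hs, ← hσ.map s hs r hr] at hc
  exact hσ.inj _ (mul_lt hr hs) _ (mul_lt hs hr) hc

/-- A point and a point commuting with it commute with at least six points. -/
noncomputable def nbOK (s : ℕ) : Bool :=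
  !com 0 s || Nat.ble 6 ((List.range 693).countP fun u => com 0 u && com s u)

theorem nb_checked : forallFrom nbOK 0 693 = true := by decide +kernel

end CfsgLib.Recog.FiTrans22
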