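import Cfsg.Agent.Lib.Recog.FiTrans22.Component
import Cfsg.Agent.Lib.Recog.FiTrans22.PointChecks
import Cfsg.Agent.Lib.Recog.FiTrans22.KindChecks
import Cfsg.Agent.Lib.Recog.UsixMult.Plane.Fusion
import Cfsg.Prelude.Def_CaseTheorems
import Cfsg.Agent.Lib.Recog.FiM22.Factor.Type22

/-!
# The neighbourhood of an involution with centraliser 2.PSU(6, 2)

The conjugates commuting with the involution are one lift of each transvection (owner: helper13).
-/

set_option autoImplicit false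
set_option maxRecDepth 20000

namespace CfsgLib.Recog.FiTrans22

open Cfsg CfsgLib.ThreeTrans CfsgLib.Recog.FiM22 CfsgLib.Recog.SporBound CfsgLib.Recog.SporBound.Fi22U6
open CfsgLib.ThreeTrans.CosetIndex (forallFrom forallFrom_elim)
open scoped Matrix

/-- A conjugate of the standard transvection is a transvection at one of the 693 points. -/
theorem exists_point {u : UsixMult.U0} (h : IsConj (UsixMult.bU 0) u) : ∃ r < 693, u = T r := by
  obtain ⟨g, rfl⟩ := isConj_iff.1 h
  obtain ⟨M, rfl⟩ := QuotientGroup.mk'_surjective (Subgroup.center SU6) g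
  have h0 : UsixMult.bU 0 = QuotientGroup.mk' (Subgroup.center SU6) (tsu (V (UsixMult.nrow 0))) := by
    rw [UsixMult.bU, UsixMult.bS, if_pos (by norm_num)]
  have hiso := iso_row (UsixMult.nrow_mem (x := 0) (by norm_num)).1 (UsixMult.nrow_mem (x := 0) (by norm_num)).2
  have hne : V (UsixMult.nrow 0) ≠ 0 := by
    intro e
    have hd : ∀ i : Fin 6, V (UsixMult.nrow 0) i = 0 := fun i => congrFun e i
    revert hd
    decide +kernel
  have hvi : Cfsg.hermForm 6 F4 2 (mat M *ᵥ V (UsixMult.nrow 0)) (mat M *ᵥ V (UsixMult.nrow 0)) = 0 := by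
    rw [form_eq]; exact hiso
  have hvne : mat M *ᵥ V (UsixMult.nrow 0) ≠ 0 := by
    intro e
    refine hne ?_
    have := congrArg (fun w => mat M⁻¹ *ᵥ w) e
    simpa [Matrix.mulVec_mulVec, ← mat_mul, mat_one] using this
  obtain ⟨r, hr, l, hl, e⟩ := point_of hvne hvi
  refine ⟨r, hr, ?_⟩
  rw [h0, ← map_inv, ← map_mul, ← map_mul, tsu_conj M hiso, e, tsu_smul (dot_iso hr) hl]
  rfl

/-- A property closed under the transvection moves holds at every point. -/
theorem closed_points (X : ℕ → Prop) {r₀ : ℕ} (hr₀ : r₀ < 693) (h₀ : X r₀)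
    (hstep : ∀ s < 693, ∀ t < 693, X t → X (mul s t)) : ∀ r < 693, X r := by
  have happ : ∀ (w : List ℕ), (∀ s ∈ w, s < 693) → ∀ t < 693, X t → X (app w t) := by
    intro w
    induction w with
    | nil => exact fun _ t _ h => h
    | cons s w ih =>
      intro hw t ht h
      have hw' : ∀ s ∈ w, s < 693 := fun x hx => hw x (List.mem_cons_of_mem _ hx)
      exact hstep s (hw s List.mem_cons_self) _ ((isAut_app hw').lt t ht) (ih hw' t ht h)
  have hback : ∀ (w : List ℕ), (∀ s ∈ w, s < 693) → ∀ t < 693, X (app w t) → X t := by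
    intro w
    induction w with
    | nil => exact fun _ t _ h => h
    | cons s w ih =>
      intro hw t ht h
      have hw' : ∀ s ∈ w, s < 693 := fun x hx => hw x (List.mem_cons_of_mem _ hx)
      refine ih hw' t ht ?_
      have hs := hw s List.mem_cons_self
      have hlt := (isAut_app hw').lt t ht
      have := hstep s hs _ (mul_lt hs hlt) h
      rwa [mul_mul_self hs hlt] at this
  obtain ⟨hx, hh, hword⟩ := word_spec hr₀
  have hx0 : X (gensL.getD (wordX r₀) 0) := by
    refine hback ((wordH r₀).map fun j => gensL.getD j 0) ?_ _ (gens_lt hx) (by rw [hword]; exact h₀)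
    intro s hs
    obtain ⟨j, hj, rfl⟩ := List.mem_map.1 hs
    exact gens_lt (hh j hj)
  have h0 : X 0 := by
    have := happ _ (zero_spec hx).1 _ (gens_lt hx) hx0
    rwa [(zero_spec hx).2] at this
  intro r hr
  refine point_induction (P := X) (fun j hj => ?_) (fun j hj t ht h => hstep _ (gens_lt hj) t ht h) hr
  refine hback _ (zero_spec hj).1 _ (gens_lt hj) ?_
  rw [(zero_spec hj).2]
  exact h0

variable {G : Type*} [Group G] [Finite G] {d : G}

/-- The data of the situation. -/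
structure Data (d : G) where
  /-- the map of the centraliser -/
  σ : ↥(Subgroup.centralizer ({d} : Set G)) →* UsixMult.U0
  /-- the involution in its centraliser -/
  δ : ↥(Subgroup.centralizer ({d} : Set G))
  /-- the module -/
  P : UsixMult.Plane.Mod σ δ
  coe : (δ : G) = d
  perfect : commutator ↥(Subgroup.centralizer ({d} : Set G)) = ⊤
  fused : ∃ g : G, g * d * g⁻¹ ∈ Subgroup.centralizer ({d} : Set G) ∧ g * d * g⁻¹ ≠ d

theorem exists_data (d : G) (hd : orderOf d = 2) (hq : Cfsg.IsQuasisimple ↥(Subgroup.centralizer ({d} : Set G)))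
    [hzn : ((Subgroup.zpowers d).subgroupOf (Subgroup.centralizer ({d} : Set G))).Normal]
    (K : Type) [Field K] [Fintype K] (hK : Fintype.card K = 4)
    (e : ↥(Subgroup.centralizer ({d} : Set G)) ⧸ (Subgroup.zpowers d).subgroupOf (Subgroup.centralizer ({d} : Set G))
      ≃* Cfsg.PSU 6 K 2)
    (hnwc : ∃ g : G, g * d * g⁻¹ ∈ Subgroup.centralizer ({d} : Set G) ∧ g * d * g⁻¹ ≠ d) :
    Nonempty (Data d) := by
  haveI := Classical.decEq K
  let C := Subgroup.centralizer ({d} : Set G)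
  let N := (Subgroup.zpowers d).subgroupOf C
  let f : C ⧸ N ≃* UsixMult.U0 := e.trans (UsixMult.exists_psu_equiv hK).some.symm
  let σ : C →* UsixMult.U0 := f.toMonoidHom.comp (QuotientGroup.mk' N)
  have hker : σ.ker = N := by
    ext y
    rw [MonoidHom.mem_ker, MonoidHom.comp_apply]
    exact f.map_eq_one_iff.trans (QuotientGroup.eq_one_iff y)
  let δ : C := ⟨d, Subgroup.mem_centralizer_singleton_iff.2 rfl⟩
  have hd1 : d ≠ 1 := fun h => by rw [h, orderOf_one] at hd; exact absurd hd (by norm_num)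
  have hdd : d * d = 1 := by rw [← pow_two, ← hd, pow_orderOf_eq_one]
  have hσ : ∀ x : C, σ x = 1 ↔ x = 1 ∨ x = δ := fun x => by
    rw [← MonoidHom.mem_ker, hker, Subgroup.mem_subgroupOf]
    constructor
    · rintro ⟨k, hk⟩
      change d ^ k = (x : G) at hk
      rcases Int.even_or_odd k with ⟨m, rfl⟩ | ⟨m, rfl⟩
      · rw [zpow_add, ← (Commute.refl d).mul_zpow, hdd, one_zpow] at hk
        exact Or.inl (Subtype.ext hk.symm)
      · rw [two_mul, zpow_add, zpow_add, ← (Commute.refl d).mul_zpow, hdd, one_zpow, one_mul, zpow_one] at hk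
        exact Or.inr (Subtype.ext hk.symm)
    · rintro (rfl | rfl)
      · exact one_mem _
      · exact Subgroup.mem_zpowers d
  have hst : Cfsg.IsStemExtension σ := by
    refine ⟨f.surjective.comp (QuotientGroup.mk'_surjective N), ?_, ?_⟩
    · rw [hker]
      intro y hy
      rw [Subgroup.mem_center_iff]
      intro z
      obtain ⟨k, hk⟩ := Subgroup.mem_subgroupOf.1 hy
      refine Subtype.ext ?_
      have hzd : Commute (z : G) d := Subgroup.mem_centralizer_singleton_iff.1 z.2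
      show (z : G) * y = y * z
      rw [← hk]
      exact (hzd.zpow_right k).eq
    · rw [show commutator C = ⊤ from hq.1.commutator_eq_top]; exact le_top
  obtain ⟨P⟩ := UsixMult.Plane.exists_mod σ δ hst hσ (fun h => hd1 (congrArg Subtype.val h))
  exact ⟨⟨σ, δ, P, rfl, hq.1.commutator_eq_top, hnwc⟩⟩

namespace Data

variable (X : Data d)
include X

theorem sq_d : d * d = 1 := by
  rw [← X.coe, ← Subgroup.coe_mul, X.P.sq]; rfl

theorem d_ne : d ≠ 1 := fun h => X.P.ne (Subtype.ext (X.coe.trans h))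

theorem sq_conj {x : G} (hx : IsConj d x) : x * x = 1 := by
  obtain ⟨g, rfl⟩ := isConj_iff.1 hx
  rw [show g * d * g⁻¹ * (g * d * g⁻¹) = g * (d * d) * g⁻¹ by group, X.sq_d, mul_one, mul_inv_cancel]

theorem conj_closed (g : G) : ∀ x ∈ conjugatesOf d, g * x * g⁻¹ ∈ conjugatesOf d :=
  fun _ hx => IsConj.trans (show IsConj d _ from hx) (isConj_iff.2 ⟨g, rfl⟩)

theorem σ_conj {x : ↥(Subgroup.centralizer ({d} : Set G))} (h : ∃ r < 693, X.σ x = T r)
    (y : ↥(Subgroup.centralizer ({d} : Set G))) : ∃ r < 693, X.σ (y * x * y⁻¹) = T r := by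
  obtain ⟨r, hr, e⟩ := h
  obtain ⟨g, hg⟩ := isConj_iff.1 (UsixMult.isConj_tsu (code_vec_ne hr) (dot_iso hr))
  obtain ⟨s, hs, e'⟩ := exists_point (u := X.σ (y * x * y⁻¹)) (isConj_iff.2 ⟨X.σ y * g, by
    rw [map_mul, map_mul, map_inv, e, show T r = g * UsixMult.bU 0 * g⁻¹ from hg.symm]
    group⟩)
  exact ⟨s, hs, e'⟩

/-- A conjugate of the involution in its centraliser lifts a transvection, and the other lift is no conjugate. -/
theorem lift_spec {x : G} (hc : IsConj d x) (hne : x ≠ d) (hx : x ∈ Subgroup.centralizer ({d} : Set G)) :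
    (∃ r < 693, X.σ ⟨x, hx⟩ = T r) ∧ ¬ IsConj d (x * d) := by
  obtain ⟨g, hgA⟩ := X.P.involution_conj (y := (⟨x, hx⟩ : ↥(Subgroup.centralizer ({d} : Set G))))
    (Subtype.ext (X.sq_conj hc))
  obtain ⟨v, hv, hve⟩ := hgA
  have hve' : X.P.evG v = (g : G) * x * (g : G)⁻¹ := congrArg Subtype.val hve
  have hgd : (g : G) * d = d * g := Subgroup.mem_centralizer_singleton_iff.1 g.2
  obtain ⟨k, hk, hS, h22⟩ := X.P.classify_22 X.coe X.fused
  have hin : UsixMult.Plane.inS X.P.c k v = true := (hS v hv).2 (hc.trans (isConj_iff.2 ⟨g, hve'.symm⟩))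
  have hv2 : 2 ≤ v := by
    by_contra hlt
    rcases (by omega : v = 0 ∨ v = 1) with rfl | rfl
    · rw [UsixMult.Plane.inS_zero X.P.c X.P.hc k hk] at hin
      exact Bool.noConfusion hin
    · rw [X.P.evG_one X.coe] at hve'
      refine hne ?_
      calc x = (g : G)⁻¹ * ((g : G) * x * (g : G)⁻¹) * g := by group
        _ = d := by rw [← hve', mul_assoc, ← hgd, inv_mul_cancel_left]
  have hp := point_checked X.P.c X.P.hc k hk
  rw [pointB, h22] at hp
  simp only [Nat.beq_refl, Bool.not_true, Bool.false_or, List.all_eq_true, List.mem_range] at hp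
  have hp' := hp v hv
  rw [hin, show Nat.ble v 1 = false from Bool.eq_false_iff.2 fun e => by
    have := Nat.le_of_ble_eq_true e; omega] at hp'
  simp only [Bool.false_or, Bool.not_true, Bool.and_eq_true, Bool.not_eq_true', List.any_eq_true, List.mem_range,
    Nat.beq_eq] at hp'
  obtain ⟨hflip, j, hj, hjv⟩ := hp'
  refine ⟨?_, fun hc' => ?_⟩
  · have h1 : X.σ (X.P.ev v) = X.σ (X.P.PT j) := by
      have e2 : (UsixMult.Plane.ptV X.P.c j) / 2 = v / 2 := by
        rw [hjv, UsixMult.Plane.ptV, UsixMult.Plane.colV]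
        split_ifs <;> omega
      rw [(X.P.PT_eq hj).1, ← X.P.σ_half v, ← X.P.σ_half (UsixMult.Plane.ptV X.P.c j), e2]
    obtain ⟨r, hr, e⟩ := exists_point (X.P.isConj_PT hj)
    rw [← h1, hve] at e
    have := X.σ_conj ⟨r, hr, e⟩ g⁻¹
    rwa [show g⁻¹ * (g * ⟨x, hx⟩ * g⁻¹) * g⁻¹⁻¹ = (⟨x, hx⟩ : ↥(Subgroup.centralizer ({d} : Set G))) by group] at this
  · have hd' : (g : G) * (x * d) * (g : G)⁻¹ = X.P.evG (v ^^^ 1) := by
      rw [X.P.evG_xor, hve', X.P.evG_one X.coe, mul_assoc ((g : G) * x),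
        show (g : G)⁻¹ * d = d * (g : G)⁻¹ by rw [eq_mul_inv_iff_mul_eq, mul_assoc, ← hgd, inv_mul_cancel_left]]
      simp only [mul_assoc]
    have hlt : v ^^^ 1 < 1024 := Nat.xor_lt_two_pow (n := 10) hv (by norm_num)
    have := (hS _ hlt).2 (hc'.trans (isConj_iff.2 ⟨g, hd'⟩))
    rw [show Nat.xor v 1 = v ^^^ 1 from rfl, this] at hflip
    exact Bool.noConfusion hflip

/-- The two conjugates over one transvection agree. -/
theorem lift_unique {x y : G} (hx : x ∈ nbrs (conjugatesOf d) d) (hy : y ∈ nbrs (conjugatesOf d) d)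
    (hx' : x ∈ Subgroup.centralizer ({d} : Set G)) (hy' : y ∈ Subgroup.centralizer ({d} : Set G))
    (h : X.σ ⟨x, hx'⟩ = X.σ ⟨y, hy'⟩) : x = y := by
  rcases (X.P.ker ((⟨x, hx'⟩ : ↥(Subgroup.centralizer ({d} : Set G)))⁻¹ * ⟨y, hy'⟩)).1
    (by rw [map_mul, map_inv, h, inv_mul_cancel]) with e | e
  · exact congrArg Subtype.val (inv_mul_eq_one.1 e)
  · exfalso
    have e' : x⁻¹ * y = d := (congrArg Subtype.val e).trans X.coe
    refine (X.lift_spec hx.1 hx.2.1 hx').2 ?_
    rw [show x * d = y by rw [← e', mul_inv_cancel_left]]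
    exact hy.1

theorem mem_cent {x : G} (hx : x ∈ nbrs (conjugatesOf d) d) : x ∈ Subgroup.centralizer ({d} : Set G) :=
  Subgroup.mem_centralizer_singleton_iff.2 hx.2.2.symm

theorem nbrs_conj' {c x : G} (hc : c ∈ Subgroup.centralizer ({d} : Set G)) (hx : x ∈ nbrs (conjugatesOf d) d) :
    c * x * c⁻¹ ∈ nbrs (conjugatesOf d) d := by
  have hd : c * d * c⁻¹ = d := by rw [Subgroup.mem_centralizer_singleton_iff.1 hc, mul_inv_cancel_right]
  refine ⟨X.conj_closed c x hx.1, fun e => hx.2.1 (mul_left_cancel (mul_right_cancel (e.trans hd.symm))), ?_⟩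
  rw [← hd]
  exact commute_conj_iff.2 hx.2.2

theorem lift_exists {r : ℕ} (hr : r < 693) : ∃ (x : G) (hx : x ∈ nbrs (conjugatesOf d) d),
    X.σ ⟨x, X.mem_cent hx⟩ = T r := by
  obtain ⟨g₀, hgC, hgd⟩ := X.fused
  have he : g₀ * d * g₀⁻¹ ∈ nbrs (conjugatesOf d) d :=
    ⟨isConj_iff.2 ⟨g₀, rfl⟩, hgd, (Subgroup.mem_centralizer_singleton_iff.1 hgC).symm⟩
  obtain ⟨⟨r₀, hr₀, e₀⟩, -⟩ := X.lift_spec he.1 hgd hgC
  refine closed_points (fun r => ∃ (x : G) (hx : x ∈ nbrs (conjugatesOf d) d),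
    X.σ ⟨x, X.mem_cent hx⟩ = T r) hr₀ ⟨_, he, e₀⟩ (fun s hs t ht ⟨x, hx, e⟩ => ?_) r hr
  obtain ⟨c, hc⟩ := X.P.stem.1 (T s)
  refine ⟨_, X.nbrs_conj' c.2 hx, ?_⟩
  rw [← T_conj hs ht, ← hc, ← e, ← map_inv, ← map_mul, ← map_mul]
  rfl

theorem hood : Hood (conjugatesOf d) d := by
  classical
  choose e he heq using fun r : Fin 693 => X.lift_exists r.2
  let lab : ℕ → G := fun r => if h : r < 693 then e ⟨r, h⟩ else 1
  have hlab : ∀ r (hr : r < 693), lab r = e ⟨r, hr⟩ := fun r hr => dif_pos hr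
  have σlab : ∀ r (hr : r < 693) (h : lab r ∈ Subgroup.centralizer ({d} : Set G)), X.σ ⟨lab r, h⟩ = T r :=
    fun r hr h => by rw [← heq ⟨r, hr⟩]; exact congrArg X.σ (Subtype.ext (hlab r hr))
  have L : Labelled (conjugatesOf d) d lab := by
    refine ⟨fun r hr => ?_, fun r hr s hs h => ?_, fun x hx => ?_, fun r hr s hs => ?_⟩
    · rw [hlab r hr]; exact he _
    · have hr' : lab r ∈ Subgroup.centralizer ({d} : Set G) := by rw [hlab r hr]; exact X.mem_cent (he _)
      exact T_inj hr hs ((σlab r hr hr').symm.trans ((congrArg X.σ (Subtype.ext h)).trans (σlab s hs (h ▸ hr'))))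
    · obtain ⟨⟨r, hr, er⟩, -⟩ := X.lift_spec hx.1 hx.2.1 (X.mem_cent hx)
      refine ⟨r, hr, ?_⟩
      rw [hlab r hr]
      exact X.lift_unique (he _) hx (X.mem_cent (he _)) (X.mem_cent hx) ((heq ⟨r, hr⟩).trans er.symm)
    · rw [hlab r hr, hlab s hs, hlab _ (mul_lt hr hs)]
      refine X.lift_unique (he _) (X.nbrs_conj' (X.mem_cent (he _)) (he _)) (X.mem_cent (he _))
        (mul_mem (mul_mem (X.mem_cent (he _)) (X.mem_cent (he _))) (inv_mem (X.mem_cent (he _)))) ?_
      rw [heq]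
      show T (mul r s) = X.σ (⟨_, X.mem_cent (he ⟨r, hr⟩)⟩ * ⟨_, X.mem_cent (he ⟨s, hs⟩)⟩ *
        (⟨_, X.mem_cent (he ⟨r, hr⟩)⟩ : ↥(Subgroup.centralizer ({d} : Set G)))⁻¹)
      rw [map_mul, map_mul, map_inv, heq, heq, T_conj hr hs]
  have hsq : ∀ x ∈ conjugatesOf d, x * x = 1 := fun x hx => X.sq_conj hx
  have hcl : Subgroup.centralizer ({d} : Set G) = Subgroup.closure (nbrs (conjugatesOf d) d) := by
    set S := Subgroup.closure (nbrs (conjugatesOf d) d)
    have hle : S ≤ Subgroup.centralizer ({d} : Set G) := (Subgroup.closure_le _).2 fun x hx => X.mem_cent hx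
    refine le_antisymm ?_ hle
    set S' := S.subgroupOf (Subgroup.centralizer ({d} : Set G))
    have hmap : S'.map X.σ = ⊤ := by
      rw [eq_top_iff, ← FiM22.closure_T, Subgroup.closure_le]
      rintro _ ⟨r, hr, rfl⟩
      obtain ⟨x, hx, ex⟩ := X.lift_exists hr
      exact ⟨⟨x, X.mem_cent hx⟩, Subgroup.subset_closure hx, ex⟩
    have hder : commutator ↥(Subgroup.centralizer ({d} : Set G)) ≤ S' := by
      rw [commutator_def, Subgroup.commutator_le]
      intro p _ q _
      obtain ⟨p', hp', ep⟩ := hmap.symm ▸ (Subgroup.mem_top (X.σ p))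
      obtain ⟨q', hq', eq'⟩ := hmap.symm ▸ (Subgroup.mem_top (X.σ q))
      have hz : ∀ {u u' : ↥(Subgroup.centralizer ({d} : Set G))}, X.σ u' = X.σ u → ∀ w, Commute (u'⁻¹ * u) w := by
        intro u u' h w
        exact (Subgroup.mem_center_iff.1 (X.P.stem.2.1 (MonoidHom.mem_ker.2 (by
          rw [map_mul, map_inv, h, inv_mul_cancel]))) w).symm
      have e1 : p = p' * (p'⁻¹ * p) := (mul_inv_cancel_left _ _).symm
      have e2 : q = q' * (q'⁻¹ * q) := (mul_inv_cancel_left _ _).symm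
      rw [e1, e2, commutatorElement_def]
      generalize hu : p'⁻¹ * p = u
      generalize hw : q'⁻¹ * q = w
      have cu : ∀ z, Commute u z := hu ▸ hz ep
      have cw : ∀ z, Commute w z := hw ▸ hz eq'
      rw [show p' * u * (q' * w) * (p' * u)⁻¹ * (q' * w)⁻¹ = p' * q' * p'⁻¹ * q'⁻¹ by
        rw [mul_inv_rev, mul_inv_rev]
        calc p' * u * (q' * w) * (u⁻¹ * p'⁻¹) * (w⁻¹ * q'⁻¹)
            = p' * (u * (q' * w)) * u⁻¹ * p'⁻¹ * (w⁻¹ * q'⁻¹) := by simp only [mul_assoc]
          _ = p' * (q' * (w * p'⁻¹)) * (w⁻¹ * q'⁻¹) := by rw [(cu _).eq]; simp only [mul_assoc, mul_inv_cancel_left]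
          _ = p' * q' * p'⁻¹ * q'⁻¹ := by rw [(cw _).eq]; simp only [mul_assoc, mul_inv_cancel_left]]
      exact mul_mem (mul_mem (mul_mem hp' hq') (inv_mem hp')) (inv_mem hq')
    intro g hg
    exact hder (X.perfect.symm ▸ Subgroup.mem_top (⟨g, hg⟩ : ↥(Subgroup.centralizer ({d} : Set G))))
  refine ⟨X.conj_closed, fun x hx y hy => isConj_iff.1 ((show IsConj d x from hx).symm.trans hy), hsq,
    fun x hx h1 => X.d_ne ?_, mem_conjugatesOf_self, ⟨lab, L⟩, fun y hy z hz hc => ?_, fun g hg => ?_,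
    fun g hg hall => ?_⟩
  · obtain ⟨g, hg⟩ := isConj_iff.1 hx
    exact conj_eq_one_iff.1 (hg.trans h1)
  · obtain ⟨r, hr, rfl⟩ := L.surj y hy
    obtain ⟨s, hs, rfl⟩ := L.surj z hz
    have hrs : mul r s = mul s r :=
      braid_points hr hs (Bool.eq_false_iff.2 fun h => hc ((L.commute_iff hr hs).2 h))
    have e := L.map r hr s hs
    rw [hrs, L.map s hs r hr, inv_eq_of_mul_eq_one_right (hsq _ hy.1), inv_eq_of_mul_eq_one_right (hsq _ hz.1)] at e
    rw [pow_succ, pow_two]
    calc lab r * lab s * (lab r * lab s) * (lab r * lab s)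
        = (lab r * lab s * lab r) * (lab s * lab r * lab s) := by simp only [mul_assoc]
      _ = (lab s * lab r * lab s) * (lab s * lab r * lab s) := by rw [e]
      _ = lab s * lab r * (lab s * lab s) * lab r * lab s := by simp only [mul_assoc]
      _ = lab s * (lab r * lab r) * lab s := by rw [hsq _ hz.1, mul_one]; simp only [mul_assoc]
      _ = 1 := by rw [hsq _ hy.1, mul_one, hsq _ hz.1]
  · exact hcl ▸ Subgroup.mem_centralizer_singleton_iff.2 hg
  · let gC : ↥(Subgroup.centralizer ({d} : Set G)) := ⟨g, Subgroup.mem_centralizer_singleton_iff.2 hg⟩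
    have h1 : X.σ gC ∈ Subgroup.center UsixMult.U0 := by
      rw [Subgroup.mem_center_iff]
      intro u
      obtain ⟨w, rfl⟩ := X.P.stem.1 u
      have hw : Commute g (w : G) :=
        RankThree.commute_closure (fun _ hz => hall _ hz) (hcl ▸ w.2)
      exact (congrArg X.σ (Subtype.ext hw.symm.eq : w * gC = gC * w) ▸ (map_mul X.σ w gC).symm).trans (map_mul X.σ gC w)
    rw [FiM22.Factor.center_Q6, Subgroup.mem_bot] at h1
    rcases (X.P.ker gC).1 h1 with e | e
    · exact Or.inl (congrArg Subtype.val e)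
    · exact Or.inr ((congrArg Subtype.val e).trans X.coe)

theorem base : Nonempty (Base (inBall (conjugatesOf d) d)
    (⟨d, Subgroup.subset_closure X.hood.mem_ball_self⟩ : ↥(Subgroup.closure (ball (conjugatesOf d) d)))) :=
  X.hood.base X.σ X.P.stem.1 fun x hx => (X.P.ker x).1 hx |>.imp (congrArg Subtype.val)
    fun e => (congrArg Subtype.val e).trans X.coe

end Data

end CfsgLib.Recog.FiTrans22
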